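import Cfsg.Agent.H826.RgF.Glue

/-!
# S3691, reduction of the plus type, box `beta_X` (helper920)

* `cnt_norm` : a prime divisor `b` of `q ^ m - 1` divides the number of non-zero vectors of norm `c` of a quadratic space of
  plus type of dimension `2 m`
* `orbit_small` : the other factor fixes a "small" set of vectors
* `beta_X` : the prime `b` divides the order of `X`
-/

set_option autoImplicit false
set_option linter.unusedSectionVars false

namespace Cfsg.Agent.H920.Rg

open Module QuadraticMap Cfsg Cfsg.Geo Cfsg.Agent.LieClassical.OrthCore Cfsg.Agent.LieClassical.OrthTrans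
  Cfsg.Agent.H454.Reg Cfsg.Agent.H449.Reg Cfsg.Agent.H955 Cfsg.Agent.H954.TSing Cfsg.Agent.H884.El
  Cfsg.Agent.H826.RgF
open Cfsg.Agent.H951 (fx cm Inv)
open Cfsg.Agent.H826.Rg (preE mem_preE preE_le_E preE_le_O mem_preE_iff mem_preE_iff' card_preE)
open Cfsg.Agent.H826.Rg920 (card_orbit_stab)
open Cfsg.Agent.H964.Rg (ResV ResP Cx)
open Cfsg.Agent.LieClassical.OrthFinite (glEquiv)
open scoped MatrixGroups Matrix

universe u

section cnt

variable {F : Type} {V : Type} [Field F] [Fintype F] [AddCommGroup V] [Module F V] [FiniteDimensional F V]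
  {Q : QuadraticForm F V}

/-- a divisor `b` of `q ^ m - 1` divides the number of vectors `≠ 0` of norm `c` -/
theorem cnt_norm {q m b : ℕ} (hQ : Nondeg Q) (hF : Nat.card F = q) (hV : finrank F V = 2 * m) (hm : 1 ≤ m)
    (hD : ∃ D : Submodule F V, finrank F D = m ∧ ∀ x ∈ D, Q x = 0) (hb : b ∣ q ^ m - 1) (c : F) :
    b ∣ Nat.card {u : V // u ≠ 0 ∧ Q u = c} := by
  classical
  have hfV : Finite V := Module.finite_of_finite F
  have := Fintype.ofFinite V
  obtain ⟨D, hDd, hDs⟩ := hD
  have key : ∀ c : F, c ≠ 0 → b ∣ Nat.card {u : V // Q u = c} := fun c hc => by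
    rw [H826.Rg920.card_norm hQ hF hV hm hc hDd hDs]
    exact hb.mul_left _
  by_cases hc : c = 0
  · subst hc
    -- the total number of vectors
    have h1 : Nat.card V - 1 = Nat.card {u : V // u ≠ 0} := by
      rw [Nat.card_eq_fintype_card, Nat.card_eq_fintype_card, Fintype.card_subtype_compl, Fintype.card_subtype_eq]
    have h2 : b ∣ Nat.card V - 1 := by
      rw [Module.natCard_eq_pow_finrank (K := F) (V := V), hF, hV]
      have h3 : q ^ m - 1 ∣ (q ^ m) ^ 2 - 1 ^ 2 := Nat.sub_dvd_pow_sub_pow _ _ 2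
      rw [one_pow, ← pow_mul, mul_comm m 2] at h3
      exact hb.trans h3
    have h3 : Nat.card {u : V // u ≠ 0} = Nat.card {u : V // u ≠ 0 ∧ Q u = 0} + Nat.card {u : V // Q u ≠ 0} := by
      rw [Nat.card_eq_fintype_card, Nat.card_eq_fintype_card, Nat.card_eq_fintype_card, Fintype.card_subtype,
        Fintype.card_subtype, Fintype.card_subtype, ← Finset.card_union_of_disjoint]
      · congr 1
        ext u
        simp only [Finset.mem_filter, Finset.mem_univ, true_and, Finset.mem_union]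
        constructor
        · intro hu
          by_cases h : Q u = 0
          · exact Or.inl ⟨hu, h⟩
          · exact Or.inr h
        · rintro (h | h)
          · exact h.1
          · rintro rfl
            exact h (QuadraticMap.map_zero Q)
      · rw [Finset.disjoint_filter]
        intro u _ h h'
        exact h' h.2
    have h4 : b ∣ Nat.card {u : V // Q u ≠ 0} := by
      have h5 : Nat.card {u : V // Q u ≠ 0} =
          ∑ c ∈ (Finset.univ : Finset F).filter (· ≠ 0), Nat.card {u : V // Q u = c} := by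
        rw [Nat.card_eq_fintype_card, Fintype.card_subtype,
          Finset.card_eq_sum_card_fiberwise (f := fun u : V => Q u) (t := (Finset.univ : Finset F).filter (· ≠ 0))]
        · refine Finset.sum_congr rfl fun c hc => ?_
          rw [Nat.card_eq_fintype_card, Fintype.card_subtype]
          congr 1
          ext u
          simp only [Finset.mem_filter, Finset.mem_univ, true_and] at hc ⊢
          exact ⟨fun h => h.2, fun h => ⟨by rw [h]; exact hc, h⟩⟩
        · intro u hu
          simpa using hu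
      rw [h5]
      refine Finset.dvd_sum fun c hc => key c ?_
      simpa using hc
    rw [h1, h3] at h2
    exact (Nat.dvd_add_left h4).1 h2
  · have h1 : Nat.card {u : V // u ≠ 0 ∧ Q u = c} = Nat.card {u : V // Q u = c} := by
      refine Nat.card_congr (Equiv.subtypeEquivRight fun u => ⟨fun h => h.2, fun h => ⟨?_, h⟩⟩)
      rintro rfl
      rw [QuadraticMap.map_zero] at h
      exact hc h.symm
    rw [h1]
    exact key c hc

end cnt

section tl

variable {ι : Type} [Fintype ι] [DecidableEq ι] {F : Type} [Field F] [Fintype F] {Q : QuadraticForm F (ι → F)}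
variable {G : Type u} [Group G] [Finite G] {T : Subgroup G} [T.Normal] {hG : Good Q} {eT : T ≃* POmega F (⇑Q)}
  {hI : Ind (eP hG eT)} {X Y : Subgroup G} {p f m : ℕ}

/-- an odd prime which divides the number of vectors of norm `Q v`, while the orbit of `v` under `Y` is small, divides `|X ∩ T|` -/
theorem dvd_of_orbit {r : ℕ} (hr : r.Prime) (hr2 : r ≠ 2) (hf : Fac T X Y) (ho : ¬ r ∣ Nat.card (Cfsg.Out T)) {v : ι → F}
    (hv0 : v ≠ 0) (hd : r ∣ Nat.card {u : ι → F // u ≠ 0 ∧ Q u = Q v})
    (hs : (MulAction.orbit (preE (eP hG eT) Y) v).ncard < r) : r ∣ Nat.card (preE (eP hG eT) X) := by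
  have hfE : Finite ((ι → F) ≃ₗ[F] (ι → F)) :=
    Finite.of_injective (fun e : (ι → F) ≃ₗ[F] (ι → F) => (e : (ι → F) → (ι → F))) DFunLike.coe_injective
  have h1 := card_orbit_stab (E Q) v
  have h2 : (MulAction.orbit (E Q) v).ncard = Nat.card {u : ι → F // u ≠ 0 ∧ Q u = Q v} := by
    have h3 : MulAction.orbit (E Q) v = {u | u ≠ 0 ∧ Q u = Q v} := by
      ext u
      constructor
      · rintro ⟨g, rfl⟩
        refine ⟨fun h0 => hv0 ?_, E_le_O g.2 v⟩
        have h0' : g.1 v = 0 := h0
        exact (LinearEquiv.map_eq_zero_iff g.1).1 h0'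
      · rintro ⟨hu0, hu⟩
        obtain ⟨g, hg, hgu⟩ := hG.trans_norm hv0 hu0 (Eq.symm hu)
        exact ⟨⟨g, hg⟩, hgu⟩
    rw [h3]
    rfl
  have h3 := card_orbit_stab (preE (eP hG eT) Y) v
  have ho' : (MulAction.orbit (preE (eP hG eT) Y) v).ncard ≠ 0 := by
    rw [← pos_iff_ne_zero, Set.ncard_pos]
    exact ⟨v, MulAction.mem_orbit_self _⟩
  have h4 : ((MulAction.orbit (preE (eP hG eT) Y) v).ncard).factorization r = 0 := by
    apply Nat.factorization_eq_zero_of_not_dvd
    intro hd
    have h8 := Nat.le_of_dvd (Nat.pos_of_ne_zero ho') hd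
    omega
  have h5 : Nat.card (MulAction.stabilizer (preE (eP hG eT) Y) v) ∣ Nat.card (MulAction.stabilizer (E Q) v) := by
    let φ : MulAction.stabilizer (preE (eP hG eT) Y) v →* MulAction.stabilizer (E Q) v :=
      { toFun := fun g => ⟨⟨g.1.1, g.1.2.1⟩, g.2⟩
        map_one' := rfl
        map_mul' := fun _ _ => rfl }
    refine Subgroup.card_dvd_of_injective φ fun a b hab => ?_
    have h6 : (φ a).1.1 = (φ b).1.1 := by rw [hab]
    exact Subtype.ext (Subtype.ext h6)
  have h6 := hf.val_eq ho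
  have h7 := fac_preE' (e := eP hG eT) (X := X) hr hr2 hG
  have h8 := fac_preE' (e := eP hG eT) (X := Y) hr hr2 hG
  have h9 := fac_T' hr hr2 hG (eP hG eT)
  have hn : Nat.card {u : ι → F // u ≠ 0 ∧ Q u = Q v} ≠ 0 := by
    have : Nonempty {u : ι → F // u ≠ 0 ∧ Q u = Q v} := ⟨⟨v, hv0, rfl⟩⟩
    exact Nat.card_pos.ne'
  have hs1 : Nat.card (MulAction.stabilizer (preE (eP hG eT) Y) v) ≠ 0 := Nat.card_pos.ne'
  have hs2 : Nat.card (MulAction.stabilizer (E Q) v) ≠ 0 := Nat.card_pos.ne'
  rw [← h3, Nat.factorization_mul ho' hs1, Finsupp.add_apply, h4, zero_add] at h8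
  rw [← h1, h2, Nat.factorization_mul hn hs2, Finsupp.add_apply] at h9
  have h10 := (Nat.factorization_le_iff_dvd hs1 hs2).2 h5 r
  have h11 : 1 ≤ (Nat.card {u : ι → F // u ≠ 0 ∧ Q u = Q v}).factorization r :=
    (hr.dvd_iff_one_le_factorization hn).1 hd
  exact (hr.dvd_iff_one_le_factorization Nat.card_pos.ne').2 (by omega)

/-- **box `beta_X`** -/
theorem beta_X (h : Cx hI X Y p f m (2 * m - 2)) (hP : IsPlus Q) {r4 w b : ℕ} (hr4 : PP p (f * (2 * m - 4)) r4)
    (h4 : r4 ∣ Nat.card (Y.subgroupOf T)) (hw : PP p (f * (m - 1)) w) (hwY : w ∣ Nat.card (Y.subgroupOf T))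
    (hY : Rd (preE (eP hG eT) Y)) (hb : b.Prime ∧ 30 < b ∧ b ∣ (p ^ f) ^ m - 1 ∧ f = 1 ∧ p ≤ 3 ∧ m = 10) :
    b ∣ Nat.card (preE (eP hG eT) X) := by
  obtain ⟨hbp, hb30, hbd, rfl, hp3, rfl⟩ := hb
  have hQ : Nondeg Q := hG.nondeg
  have hn : finrank F (ι → F) = 2 * 10 := h.finrank_V
  have hp := h.prime
  have hcard : Nat.card F = p := by rw [h.card, pow_one]
  have hr4' : PP (Nat.card F) 16 r4 := h.pp (k := 16) hr4
  have hw' : PP (Nat.card F) 9 w := h.pp (k := 9) hw
  -- the elements of order `r4`, `w`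
  obtain ⟨y, hy, hyr, hy1⟩ := (el_prime (eT := eT) (hG := hG) hr4.prime h4).exists_elt hr4.prime
  obtain ⟨z, hz, hzw, hz1⟩ := (el_prime (eT := eT) (hG := hG) hw.prime hwY).exists_elt hw.prime
  obtain ⟨S, hS0, hSi, hSy⟩ := rd_fix hQ preE_le_O hr4' (by omega) (by omega) hy hyr hy1 hY
  obtain ⟨hyd, -, -⟩ := block hr4' (by omega) (by omega) (preE_le_O hy) hyr hy1
  have hSd : finrank F S ≤ 4 := by
    have := Submodule.finrank_mono hSy
    omega
  have hSz : S ≤ fx (z : Module.End F (ι → F)) :=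
    le_fx hw' (by omega) (preE_le_O hz) hzw (fun s hs => hSi z hz s hs) (by omega)
  have hzd : finrank F (fx (z : Module.End F (ι → F))) = 2 := by
    have hiso := iso_of hw' (by omega) (preE_le_O hz) hzw
    have hz1' : (z : Module.End F (ι → F)) ≠ 1 := by
      intro h0
      apply hz1
      ext1 s
      exact LinearMap.congr_fun h0 s
    have h1 := (hiso.odd_case hQ hz1' hw' (by decide) (by omega)).1
    have h2 := hiso.finrank_add
    omega
  have hSd2 : finrank F S ≤ 2 := by
    have := Submodule.finrank_mono hSz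
    omega
  obtain ⟨v, hvS, hv0⟩ := S.exists_mem_ne_zero_of_ne_bot hS0
  -- the orbit is small
  have hfV : Finite (ι → F) := Module.finite_of_finite F
  have hsmall : (MulAction.orbit (preE (eP hG eT) Y) v).ncard ≤ 9 := by
    have hsub : MulAction.orbit (preE (eP hG eT) Y) v ⊆ (S : Set (ι → F)) := by
      rintro _ ⟨g, rfl⟩
      exact hSi g.1 g.2 v hvS
    refine (Set.ncard_le_ncard hsub (Set.toFinite _)).trans ?_
    have h1 : (S : Set (ι → F)).ncard = Nat.card S := rfl
    rw [h1, Module.natCard_eq_pow_finrank (K := F) (V := S), hcard]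
    calc p ^ finrank F S ≤ p ^ 2 := Nat.pow_le_pow_right hp.pos hSd2
      _ ≤ 3 ^ 2 := Nat.pow_le_pow_left hp3 2
      _ = 9 := by norm_num
  -- `b` does not divide `|Out T|`
  have hout : ¬ b ∣ Nat.card (Cfsg.Out T) := by
    have := Fact.mk hbp
    have hpz : ((p : ZMod b)) ^ 10 = 1 := by
      have h1 : ((p ^ 10 - 1 : ℕ) : ZMod b) = 0 := by
        rw [ZMod.natCast_eq_zero_iff]
        simpa using hbd
      have h2 : 1 ≤ p ^ 10 := Nat.one_le_pow _ _ hp.pos
      rw [Nat.cast_sub h2, Nat.cast_pow, Nat.cast_one, sub_eq_zero] at h1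
      exact h1
    have hdk := orderOf_dvd_of_pow_eq_one hpz
    have hk3 : 3 ≤ orderOf (p : ZMod b) := by
      by_contra hcon
      push Not at hcon
      have hk0 : orderOf (p : ZMod b) ≠ 0 := by
        intro h0
        rw [h0] at hdk
        omega
      have hk2 : orderOf (p : ZMod b) ∣ 2 := by
        rcases (by omega : orderOf (p : ZMod b) = 1 ∨ orderOf (p : ZMod b) = 2) with h0 | h0 <;> rw [h0]
        · exact one_dvd _
      have h1 : ((p : ZMod b)) ^ 2 = 1 := orderOf_dvd_iff_pow_eq_one.1 hk2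
      have h2 : ((p ^ 2 - 1 : ℕ) : ZMod b) = 0 := by
        rw [Nat.cast_sub (Nat.one_le_pow _ _ hp.pos), Nat.cast_pow, Nat.cast_one, h1, sub_self]
      rw [ZMod.natCast_eq_zero_iff] at h2
      have h3 : p ^ 2 ≤ 3 ^ 2 := Nat.pow_le_pow_left hp3 2
      have h4 : 2 ^ 2 ≤ p ^ 2 := Nat.pow_le_pow_left hp.two_le 2
      have := Nat.le_of_dvd (by omega) h2
      omega
    exact h.out _ b hk3 ⟨hbp, by rw [one_mul]⟩
  obtain ⟨U, hU, hUd⟩ := hP
  rw [hn] at hUd
  refine dvd_of_orbit hbp (by omega) h.fac hout hv0 ?_ (by omega)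
  exact cnt_norm hQ h.card hn (by omega) ⟨U, by omega, hU⟩ hbd (Q v)

end tl

end Cfsg.Agent.H920.Rg
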