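import Cfsg.Agent.H920.Rg.StmtN
import Cfsg.Agent.ClassicalGeometry.OrthSemiForms
import Cfsg.Agent.ClassicalGeometry.OmegaIndex
import Cfsg.Agent.ClassicalGeometry.OrthDickson

/-!
# S3691, residual case D+1 beta: the index of `T` (helper920)
-/

set_option autoImplicit false
set_option linter.unusedSectionVars false

open Cfsg Module
open QuadraticMap Cfsg.Agent.LieClassical.OrthCore Cfsg.Agent.LieClassical.OrthTrans
  Cfsg.Agent.ClassicalGeometry.OrthSemi Cfsg.Agent.H449.Reg Cfsg.Agent.H454.Reg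
open Cfsg.Agent.AutOrth.Main (oe pe)
open Cfsg.Agent.ClassicalGeometry.OrthSemiCount (isSS_unique permO permO_injective isSS_permO exists_permO)

namespace Cfsg.Agent.H920.Rg

universe u v

section gam

variable {F : Type u} {V : Type v} [Field F] [AddCommGroup V] [Module F V] {Q : QuadraticForm F V}

/-- the field automorphism of a semisimilitude -/
noncomputable def sg (hG : Good Q) : Gam Q →* (F ≃+* F) where
  toFun M := M.2.choose
  map_one' := by
    obtain ⟨c, hc⟩ := (1 : Gam Q).2.choose_spec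
    exact (isSS_unique hG hc (show IsSS Q (RingEquiv.refl F) 1 ((1 : Gam Q) : Equiv.Perm V) from
      ⟨one_ne_zero, fun u v => rfl, fun a v => rfl, fun v => (one_mul _).symm⟩)).1
  map_mul' M N := by
    obtain ⟨c, hc⟩ := (M * N).2.choose_spec
    obtain ⟨a, ha⟩ := M.2.choose_spec
    obtain ⟨b, hb⟩ := N.2.choose_spec
    exact (isSS_unique hG hc (ha.mul hb)).1

theorem sg_eq (hG : Good Q) {M : Gam Q} {σ : F ≃+* F} {c : F} (h : IsSS Q σ c M.1) : sg hG M = σ := by
  obtain ⟨c', hc⟩ := M.2.choose_spec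
  exact (isSS_unique hG hc h).1

theorem exists_ml (hG : Good Q) (M : (sg hG).ker) : ∃ c : Fˣ, IsSS Q (RingEquiv.refl F) c M.1.1 := by
  obtain ⟨σ, c, hc⟩ := M.1.2
  have h1 := sg_eq hG hc
  have h2 : sg hG M.1 = 1 := M.2
  rw [h2] at h1
  have h3 : σ = RingEquiv.refl F := h1.symm
  rw [h3] at hc
  exact ⟨Units.mk0 c hc.ne, hc⟩

/-- the multiplier of a similitude -/
noncomputable def ml (hG : Good Q) : (sg hG).ker →* Fˣ where
  toFun M := (exists_ml hG M).choose
  map_one' := by
    have h1 := (exists_ml hG 1).choose_spec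
    exact Units.ext (isSS_unique hG h1 (show IsSS Q (RingEquiv.refl F) 1 ((1 : (sg hG).ker) : Gam Q).1 from
      ⟨one_ne_zero, fun u v => rfl, fun a v => rfl, fun v => (one_mul _).symm⟩)).2
  map_mul' M N := by
    have h1 := (exists_ml hG (M * N)).choose_spec
    have h2 := (exists_ml hG M).choose_spec
    have h3 := (exists_ml hG N).choose_spec
    exact Units.ext (isSS_unique hG h1 (h2.mul h3)).2

theorem ml_spec (hG : Good Q) (M : (sg hG).ker) : IsSS Q (RingEquiv.refl F) (ml hG M : F) M.1.1 :=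
  (exists_ml hG M).choose_spec

/-- the order of the group of semisimilitudes -/
theorem card_Gam_dvd [Finite F] [FiniteDimensional F V] (hG : Good Q) :
    Nat.card (Gam Q) ∣ Nat.card (F ≃+* F) * (Nat.card Fˣ * Nat.card (O Q)) := by
  have := Module.finite_of_finite F (M := V)
  have : Finite (F ≃+* F) := Finite.of_injective (fun e : F ≃+* F => (e : F → F)) DFunLike.coe_injective
  have h1 : Nat.card (Gam Q) = Nat.card (sg hG).range * Nat.card (sg hG).ker := by
    rw [mul_comm, ← Subgroup.index_ker, Subgroup.card_mul_index]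
  have h2 : Nat.card (sg hG).ker = Nat.card (ml hG).range * Nat.card (ml hG).ker := by
    rw [mul_comm, ← Subgroup.index_ker, Subgroup.card_mul_index]
  have h3 : Nat.card (ml hG).ker = Nat.card (O Q) := by
    symm
    let θ : O Q → (ml hG).ker := fun g =>
      ⟨⟨⟨permO Q g, RingEquiv.refl F, 1, isSS_permO g⟩, by
          show sg hG _ = 1
          exact sg_eq hG (isSS_permO g)⟩, by
        show ml hG _ = 1
        exact Units.ext (isSS_unique hG (ml_spec hG _) (isSS_permO g)).2⟩
    refine Nat.card_congr (Equiv.ofBijective θ ⟨?_, ?_⟩)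
    · intro a b hab
      apply permO_injective
      exact congrArg (fun z : (ml hG).ker => z.1.1.1) hab
    · intro M
      have h4 := ml_spec hG M.1
      have h5 : ml hG M.1 = 1 := M.2
      rw [h5, Units.val_one] at h4
      obtain ⟨g, hg⟩ := exists_permO h4
      exact ⟨g, Subtype.ext (Subtype.ext (Subtype.ext hg))⟩
  rw [h1, h2, h3]
  exact Nat.mul_dvd_mul (Subgroup.card_subgroup_dvd_card _) (Nat.mul_dvd_mul (Subgroup.card_subgroup_dvd_card _) dvd_rfl)

/-- central elements of `E Q` have square 1 -/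
theorem center_sq (hG : Good Q) {z : ↥(E Q)} (hz : z ∈ Subgroup.center ↥(E Q)) :
    ∃ a : F, a * a = 1 ∧ ∀ x, z.1 x = a • x := by
  have h1 : conjE Q (lg z) = 1 := by
    apply MulEquiv.ext
    intro g
    apply Subtype.ext
    apply LinearEquiv.ext
    intro x
    have h3 := conjLin_apply' (lg z) g.1 (z.1.symm x)
    have h4 : (lg z).1 (z.1.symm x) = x := z.1.apply_symm_apply x
    rw [h4] at h3
    change conjLin (lg z) g.1 x = g.1 x
    rw [h3]
    change z.1 (g.1 (z.1.symm x)) = g.1 x
    have h5 : z * g = g * z := (Subgroup.mem_center_iff.1 hz g).symm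
    have h6 : z.1 (g.1 (z.1.symm x)) = g.1 (z.1 (z.1.symm x)) := by
      change (z.1 * g.1) _ = (g.1 * z.1) _
      rw [show z.1 * g.1 = g.1 * z.1 from congrArg Subtype.val h5]
    rw [h6, LinearEquiv.apply_symm_apply]
  obtain ⟨a, ha, h3⟩ := exists_scalar_of_conjE hG _ h1
  have h3' : ∀ x, z.1 x = a • x := h3
  refine ⟨a, ?_, h3'⟩
  obtain ⟨x, y, hxy⟩ := hG.exists_hyp
  have h4 : Q (z.1 (x + y)) = Q (x + y) := E_le_O z.2 _
  have h5 : Q (x + y) = 1 := by rw [Q_add, hxy.left, hxy.right, hxy.pair]; simp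
  rwa [h3', QuadraticMap.map_smul, h5, smul_eq_mul, mul_one] at h4

/-- the centre of `E Q` is a `p'`-group -/
theorem not_dvd_center [Finite F] [FiniteDimensional F V] (hG : Good Q) {p : ℕ} (hp : p.Prime) [CharP F p] :
    ¬ p ∣ Nat.card (Subgroup.center ↥(E Q)) := by
  intro hd
  have := Module.finite_of_finite F (M := V)
  have : Finite (V ≃ₗ[F] V) := Finite.of_injective (fun g => (g : V → V)) DFunLike.coe_injective
  have := Fact.mk hp
  obtain ⟨z, hz⟩ := exists_prime_orderOf_dvd_card' (G := Subgroup.center ↥(E Q)) p hd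
  obtain ⟨a, ha, hza⟩ := center_sq hG z.2
  have h1 : z ^ 2 = 1 := by
    apply Subtype.ext
    apply Subtype.ext
    ext x
    change z.1.1 (z.1.1 x) = x
    rw [hza, hza, smul_smul, ha, one_smul]
  have h2 := orderOf_dvd_of_pow_eq_one h1
  rw [hz] at h2
  have hp2 : p = 2 := (Nat.prime_dvd_prime_iff_eq hp Nat.prime_two).1 h2
  subst hp2
  have h20 : (2 : F) = 0 := by exact_mod_cast CharP.cast_eq_zero F 2
  have h3 : (a - 1) * (a - 1) = 0 := by linear_combination ha + (1 - a) * h20
  have h4 : a = 1 := sub_eq_zero.1 (mul_self_eq_zero.1 h3)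
  have h5 : z = 1 := by
    apply Subtype.ext
    apply Subtype.ext
    ext x
    rw [hza, h4, one_smul]
    rfl
  rw [h5, orderOf_one] at hz
  omega

end gam

section idx

variable {ι : Type} [Fintype ι] [DecidableEq ι] {F : Type v} [Field F] [Finite F] {Q : QuadraticForm F (ι → F)}

/-- the `p`-part of the index of `E Q` in `O Q` -/
theorem fac_O_le (hG : Good Q) {p : ℕ} (hp : p.Prime) [CharP F p] (hn : 5 ≤ Fintype.card ι) :
    (Nat.card (O Q)).factorization p ≤ (Nat.card ↥(E Q)).factorization p + (2 : ℕ).factorization p := by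
  have hfin : Finite (Cfsg.isometryGroup F ⇑Q) := inferInstance
  have hnd : (polarBilin Q).Nondegenerate :=
    ⟨fun x hx => hG.nondeg x hx, fun x hx => hG.nondeg x fun y => by rw [polar_comm]; exact hx y⟩
  have h1 : Nat.card (O Q) = Nat.card (Cfsg.Omega F ⇑Q) * (Cfsg.Omega F ⇑Q).index := by
    rw [Subgroup.card_mul_index, Cfsg.Agent.ClassicalGeometry.OrthSemiForms.card_O]
  have h2 : Nat.card (Cfsg.Omega F ⇑Q) = Nat.card ↥(E Q) := Nat.card_congr (oe hG).toEquiv
  rw [h1, h2]
  have hE0 : Nat.card ↥(E Q) ≠ 0 := by rw [← h2]; exact Nat.card_pos.ne'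
  by_cases h20 : (2 : F) = 0
  · have : Nonempty ι := Fintype.card_pos_iff.1 (by omega)
    have h3 : (Cfsg.Omega F ⇑Q).index = 2 :=
      Cfsg.Agent.ClassicalGeometry.OrthDickson.index_commutator_two Q h20 hnd (Or.inr (by omega))
    rw [h3, Nat.factorization_mul hE0 two_ne_zero, Finsupp.add_apply]
  · have h3 : (Cfsg.Omega F ⇑Q).index = 4 :=
      Cfsg.Agent.ClassicalGeometry.OmegaIndex.index_Omega h20 (by omega) Q hnd
    have hp2 : p ≠ 2 := by
      rintro rfl
      exact h20 (by exact_mod_cast CharP.cast_eq_zero F 2)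
    rw [h3, Nat.factorization_mul hE0 (by norm_num), Finsupp.add_apply,
      Nat.factorization_eq_zero_of_not_dvd (n := 4) (fun h4 => hp2
        ((Nat.prime_dvd_prime_iff_eq hp Nat.prime_two).1 (hp.dvd_of_dvd_pow (show p ∣ 2 ^ 2 from h4))))]
    omega

/-- **the index of `T`** -/
theorem idx_any {G : Type u} [Group G] [Finite G] {T : Subgroup G} [T.Normal] (hG : Good Q)
    (eT : T ≃* POmega F (⇑Q)) (hI : Ind (eP hG eT)) (hc : Subgroup.centralizer (T : Set G) = ⊥)
    {p f : ℕ} (hp : p.Prime) (hf : 1 ≤ f) (hF : Nat.card F = p ^ f) (hn : 5 ≤ Fintype.card ι) :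
    (T.index).factorization p ≤ (2 * f).factorization p := by
  have := Fact.mk hp
  have hFt := Fintype.ofFinite F
  have hch : CharP F p := charP_of_card_eq_prime_pow (by rw [← Nat.card_eq_fintype_card]; exact hF)
  have hV : Finite (ι → F) := inferInstance
  have hGL : Finite ((ι → F) ≃ₗ[F] (ι → F)) := Finite.of_injective (fun g => (g : (ι → F) → (ι → F))) DFunLike.coe_injective
  set e := eP hG eT with he
  -- `|G|` divides `|range Psi|`
  have h1 : Nat.card G ∣ Nat.card (Psi Q).range := by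
    have h2 : Nat.card G = Nat.card (autP e).range :=
      Nat.card_congr (MonoidHom.ofInjective (H826.Rg.autP_injective hc)).toEquiv
    rw [h2]
    apply Subgroup.card_dvd_of_le
    rintro _ ⟨g, rfl⟩
    obtain ⟨M, hM⟩ := hI g
    exact ⟨M, hM⟩
  have hT : Nat.card T * Nat.card (Subgroup.center ↥(E Q)) = Nat.card ↥(E Q) := by
    rw [Nat.card_congr e.toEquiv]
    exact (Subgroup.card_eq_card_quotient_mul_card_subgroup _).symm
  have hTi : Nat.card T * T.index = Nat.card G := Subgroup.card_mul_index T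
  have hT0 : Nat.card T ≠ 0 := Nat.card_pos.ne'
  have hi0 : T.index ≠ 0 := Subgroup.index_ne_zero_of_finite
  have hZ0 : Nat.card (Subgroup.center ↥(E Q)) ≠ 0 := Nat.card_pos.ne'
  have hU0 : Nat.card Fˣ ≠ 0 := Nat.card_pos.ne'
  have hU : (Nat.card Fˣ).factorization p = 0 := by
    apply Nat.factorization_eq_zero_of_not_dvd
    rw [Nat.card_units, hF]
    exact H997.Rg.not_dvd_sub_one hp (by omega)
  have hfin : Finite (F ≃+* F) := Finite.of_injective (fun e : F ≃+* F => (e : F → F)) DFunLike.coe_injective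
  have hR0 : Nat.card (Psi Q).range ≠ 0 := Nat.card_pos.ne'
  have hO0 : Nat.card (O Q) ≠ 0 := Nat.card_pos.ne'
  have hA : Nat.card (F ≃+* F) = f := Cfsg.Agent.Lib.FieldAutCard.card_ringAut hf (by rw [← Nat.card_eq_fintype_card]; exact hF)
  -- the order of `Gam Q`
  have h3 := card_Gam_dvd hG
  rw [card_Gam hG, hA] at h3
  have h4 := H997.Rg.fac_le (p := p) h3 (mul_ne_zero (by omega) (mul_ne_zero hU0 hO0))
  rw [Nat.factorization_mul hR0 hU0, Nat.factorization_mul (by omega) (mul_ne_zero hU0 hO0),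
    Nat.factorization_mul hU0 hO0, Finsupp.add_apply, Finsupp.add_apply, Finsupp.add_apply, hU] at h4
  have h5 := H997.Rg.fac_le (p := p) h1 hR0
  rw [← hTi, Nat.factorization_mul hT0 hi0, Finsupp.add_apply] at h5
  have h6 := fac_O_le hG hp hn
  rw [← hT, Nat.factorization_mul hT0 hZ0, Finsupp.add_apply,
    Nat.factorization_eq_zero_of_not_dvd (not_dvd_center hG hp)] at h6
  rw [Nat.factorization_mul two_ne_zero (by omega), Finsupp.add_apply]
  omega

/-- **piece N1** -/
theorem idx : StmtIdx.{u, v} := by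
  intro ι _ _ F _ _ Q G _ _ T _ hG eT hI hc p f m hp hf hF hι hm _
  exact idx_any hG eT hI hc hp hf hF (by omega)

end idx

end Cfsg.Agent.H920.Rg
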