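import Cfsg.Agent.H920.Rg.Main
import Cfsg.Agent.H920.Rg.Idx
import Cfsg.Agent.H376.Rg920.Ext
import Cfsg.Agent.H898.Rg920.Dick
import Cfsg.Agent.H898.Rg920.Inv
import Cfsg.Agent.H826.Rg920.Cnt
import Cfsg.Agent.H826.Rg920.Bt

/-!
# S3691, residual case D+1 beta: final form (helper920)

`beta_plus` : `T ≃* PΩ⁺_{2m}(q)`, `m ≥ 4`, `q` in the table `SzM`, `Fac T X Y`, `X` contains the derived stabiliser of a nonsingular
vector and fixes its span (`ResV`), `r` a prime divisor of the preimage of `Y ∩ T` with `ord_r(p) = f m`, and this preimage has no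
normal `p`-subgroup `≠ 1` : impossible.
-/

set_option autoImplicit false
set_option linter.unusedSectionVars false

open Cfsg Module
open QuadraticMap Cfsg.Agent.LieClassical.OrthCore Cfsg.Agent.LieClassical.OrthTrans
  Cfsg.Agent.ClassicalGeometry.OrthSemi Cfsg.Agent.H449.Reg Cfsg.Agent.H454.Reg
open Cfsg.Agent.H964.Rg (ResV)

namespace Cfsg.Agent.H920.Rg

universe u v

variable {ι : Type} [Fintype ι] [DecidableEq ι] {F : Type v} [Field F] [Finite F] {Q : QuadraticForm F (ι → F)}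
  {G : Type u} [Group G] [Finite G] {T : Subgroup G} [T.Normal] {hG : Good Q} {eT : T ≃* POmega F (⇑Q)} {X Y : Subgroup G}
  {hI : Ind (eP hG eT)} {v : ι → F}

/-- **the frame exists** -/
theorem bt_plus (hf : Fac T X Y) (hR : ResV hI X v) {p f m r : ℕ} (hp : p.Prime) (hf1 : 1 ≤ f)
    (hF : Nat.card F = p ^ f) (hι : Fintype.card ι = 2 * m) (hm : 4 ≤ m) (hS : H997.Rg.SzM m (p ^ f))
    (hD : ∃ D : Submodule F (ι → F), finrank F D = m ∧ ∀ x ∈ D, Q x = 0) (hr : r.Prime)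
    (hord : orderOf (p : ZMod r) = f * m) (hrY : r ∣ Nat.card (preG eT Y))
    (hcore : ∀ N : Subgroup (GL ι F), N ≤ preG eT Y → (∀ g ∈ preG eT Y, ∀ n ∈ N, g * n * g⁻¹ ∈ N) → IsPGroup p N → N = ⊥) :
    Bt Q (H826.Rg.preE (eP hG eT) Y) (H826.Rg.Gh (eP hG eT) Y) p f m r (Q v) := by
  have hc : Subgroup.centralizer (T : Set G) = ⊥ := hf.cent
  refine H826.Rg920.bt ι F Q G T hG eT hI X Y v hf hR p f m r hp hf1 hF hι hm hS hr hord hrY hcore ?_ ?_
  · refine H826.Rg920.cnt F (ι → F) Q (p ^ f) m (Q v) hG.nondeg hF ?_ (by omega) hR.ne hD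
    rw [Module.finrank_fintype_fun_eq_card, hι]
  · exact idx_any hG eT hI hc hp hf1 hF (by omega)

/-- **F-D+1, (beta)** -/
theorem beta_plus (hJ : H997.Rg.OutJ1.{v}) (hf : Fac T X Y) (hR : ResV hI X v) {p f m r : ℕ} (hp : p.Prime) (hf1 : 1 ≤ f)
    (hF : Nat.card F = p ^ f) (hι : Fintype.card ι = 2 * m) (hm : 4 ≤ m) (hS : H997.Rg.SzM m (p ^ f))
    (hD : ∃ D : Submodule F (ι → F), finrank F D = m ∧ ∀ x ∈ D, Q x = 0) (hr : r.Prime)
    (hord : orderOf (p : ZMod r) = f * m) (hrY : r ∣ Nat.card (preG eT Y))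
    (hcore : ∀ N : Subgroup (GL ι F), N ≤ preG eT Y → (∀ g ∈ preG eT Y, ∀ n ∈ N, g * n * g⁻¹ ∈ N) → IsPGroup p N → N = ⊥) :
    False :=
  (bt_plus hf hR hp hf1 hF hι hm hS hD hr hord hrY hcore).contra H376.Rg920.ext H898.Rg920.dick H898.Rg920.inv hJ

end Cfsg.Agent.H920.Rg
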