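import Cfsg.Agent.H920.Rg.Data

/-!
# S3691, residual case D+1 beta: `⟨y⟩` normal in `K` (helper920)
-/

set_option autoImplicit false
set_option linter.unusedSectionVars false

open Cfsg Matrix Module
open QuadraticMap Cfsg.Agent.LieClassical.OrthCore Cfsg.Agent.LieClassical.OrthTrans
  Cfsg.Agent.ClassicalGeometry.OrthSemi Cfsg.Agent.H449.Reg Cfsg.Agent.H883.Sub
open Cfsg.Agent.H890.SpParity (fix mem_fix even_E)
open Cfsg.Agent.H997.Rg

namespace Cfsg.Agent.H920.Rg

universe u v

theorem fac_two_mul {p n : ℕ} (hp : p.Prime) (hp2 : p ≠ 2) (hn : n ≠ 0) : (2 * n).factorization p = n.factorization p := by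
  rw [Nat.factorization_mul two_ne_zero hn, Finsupp.add_apply,
    Nat.factorization_eq_zero_of_not_dvd (fun hd => hp2 ((Nat.prime_dvd_prime_iff_eq hp Nat.prime_two).1 hd)), zero_add]

theorem fac_two_mul' {n : ℕ} (hn : n ≠ 0) : (2 * n).factorization 2 = n.factorization 2 + 1 := by
  rw [Nat.factorization_mul two_ne_zero hn, Finsupp.add_apply, Nat.prime_two.factorization_self, add_comm]

theorem fac_two_mul_le {p n : ℕ} (hp : p.Prime) (hn : n ≠ 0) : (2 * n).factorization p ≤ n.factorization p + 1 := by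
  by_cases hp2 : p = 2
  · subst hp2; rw [fac_two_mul' hn]
  · rw [fac_two_mul hp hp2 hn]; omega

/-- sizes -/
theorem f_le_of_sz {f m : ℕ} (hS : SzM m (2 ^ f)) : (m = 4 → 4 ≤ f) ∧ (m ≤ 7 → 2 ≤ f) := by
  constructor
  · intro hm
    have h1 := hS.1 hm
    by_contra hcon
    have : 2 ^ f ≤ 2 ^ 3 := Nat.pow_le_pow_right two_pos (by omega)
    omega
  · intro hm
    have h1 := hS.2.2 hm
    by_contra hcon
    have : 2 ^ f ≤ 2 ^ 1 := Nat.pow_le_pow_right two_pos (by omega)
    omega

theorem num_small {p f m w : ℕ} (hp : p.Prime) (hf : 1 ≤ f) (hm : 4 ≤ m) (he : Even m) (hS : SzM m (p ^ f))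
    (hw : f * (m - 1) ≤ w + (2 * f).factorization p) (h4 : 4 * w ≤ f * m + 4 * m.factorization p) : False := by
  have h7 : f * (m - 1) + f = f * m := by
    obtain ⟨k, rfl⟩ : ∃ k, m = k + 1 := ⟨m - 1, by omega⟩
    rw [Nat.add_sub_cancel]; ring
  have h8 : m ≤ f * m := Nat.le_mul_of_pos_left m (by omega)
  by_cases hp2 : p = 2
  · subst hp2
    rw [fac_two_mul' (by omega)] at hw
    have h1 := two_fac_le (n := f) (by omega)
    have h2 := two_fac_le (n := m) (by omega)
    obtain ⟨hs4, hs7⟩ := f_le_of_sz hS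
    rcases Nat.lt_or_ge m 11 with hm' | hm'
    · interval_cases m
      · have h3 : (4 : ℕ).factorization 2 ≤ 2 := fac_le_of Nat.prime_two (by norm_num) (by norm_num)
        have := hs4 rfl
        omega
      · revert he; decide
      · have h3 : (6 : ℕ).factorization 2 ≤ 1 := fac_le_of Nat.prime_two (by norm_num) (by norm_num)
        have := hs7 (by norm_num)
        omega
      · revert he; decide
      · have h3 : (8 : ℕ).factorization 2 ≤ 3 := fac_le_of Nat.prime_two (by norm_num) (by norm_num)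
        omega
      · revert he; decide
      · have h3 : (10 : ℕ).factorization 2 ≤ 1 := fac_le_of Nat.prime_two (by norm_num) (by norm_num)
        omega
    · have h9 : 11 * f ≤ f * m := by rw [mul_comm 11]; exact Nat.mul_le_mul_left f hm'
      omega
  · have hp3 : 3 ≤ p := by
      have := hp.two_le
      omega
    rw [fac_two_mul hp hp2 (by omega)] at hw
    have h1 := three_fac_le hp3 (n := f) (by omega)
    have h2 := three_fac_le hp3 (n := m) (by omega)
    have h9 : 4 * f ≤ f * m := by rw [mul_comm 4]; exact Nat.mul_le_mul_left f hm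
    omega

variable {F : Type u} {V : Type v} [Field F] [AddCommGroup V] [Module F V] {Q : QuadraticForm F V}

namespace Bt

variable [Finite F] [FiniteDimensional F V] {K : Subgroup (V ≃ₗ[F] V)} {Γ : Subgroup (Gam Q)} {p f m r : ℕ} {c : F}
  (h : Bt Q K Γ p f m r c)
include h

/-- the `p`-part of a normal subgroup containing and centralising `y` -/
theorem four_fac_le (hExt : StmtExt.{u, v}) (hDick : StmtDick.{v, v}) {y : K} (hy : orderOf y = r) {C : Subgroup K}
    (hCn : C.Normal) (hCy : ∀ c ∈ C, c * y = y * c) (hyC : y ∈ C) : 4 * (Nat.card C).factorization p ≤ f * m := by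
  have := h.finGL
  have hfm := h.fm4
  by_cases hpC : p ∣ Nat.card C
  swap
  · rw [Nat.factorization_eq_zero_of_not_dvd hpC]; omega
  obtain ⟨C0, -, -, h1, h2⟩ := h.dick_data hExt hDick hy hCn hCy hpC
  set v := (Nat.card C).factorization p with hv
  rcases h1 with h1 | h1
  · omega
  have h3 := h2 hyC
  -- `r ((p ^ v) ^ 2 - 1)` divides `2 (p ^ (f m) - 1)`
  have hv0 : 0 < v := h.prime.factorization_pos_of_dvd Nat.card_pos.ne' hpC
  have hcop : Nat.Coprime p (r * ((p ^ v) ^ 2 - 1)) := by
    refine Nat.Coprime.mul_right ((Nat.coprime_primes h.prime h.rprime).2 h.rnep.symm) ?_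
    rw [← pow_mul]
    exact coprime_pow_sub_one h.prime (by omega)
  have h4 : r * ((p ^ v) ^ 2 - 1) ∣ 2 * Nat.card K := by
    refine (Nat.mul_dvd_mul_left r h1).trans ?_
    have h5 : r * (2 * Nat.card C0) = 2 * (r * Nat.card C0) := by ring
    rw [h5]
    exact Nat.mul_dvd_mul_left 2 (h3.trans (Subgroup.card_subgroup_dvd_card C))
  have h5 := h.dvd_of_coprime hcop h4
  obtain ⟨-, k, hk⟩ := two_mul_dvd h.prime (e := f * m) (by omega) ((Dvd.intro_left r rfl).trans h5)
  have hk2 : 2 ≤ k := by
    by_contra hcon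
    have h6 : k = 0 ∨ k = 1 := by omega
    rcases h6 with rfl | rfl
    · omega
    · rw [hk, mul_one, mul_comm 2 v, pow_mul] at h5
      have h7 : 0 < (p ^ v) ^ 2 - 1 := by
        have h8 : 1 < p ^ v := Nat.one_lt_pow (by omega) h.prime.one_lt
        have h9 : 1 < (p ^ v) ^ 2 := Nat.one_lt_pow two_ne_zero h8
        omega
      have h8 := Nat.dvd_of_mul_dvd_mul_right h7 h5
      exact h.not_two ((Nat.prime_dvd_prime_iff_eq h.rprime Nat.prime_two).1 h8)
  have h6 : 2 * v * 2 ≤ 2 * v * k := Nat.mul_le_mul_left _ hk2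
  omega

/-- **`⟨y⟩` is not normal** -/
theorem false_of_normal (hExt : StmtExt.{u, v}) (hDick : StmtDick.{v, v}) (hm : Even m) {y : K} (hy : orderOf y = r)
    (hn : (Subgroup.zpowers y).Normal) : False := by
  have := h.finGL
  have hfm := h.fm4
  have hm4 := h.hm
  set C : Subgroup K := Subgroup.centralizer ({y} : Set K) with hC
  have hCe : C = Subgroup.centralizer (Subgroup.zpowers y : Set K) := by
    rw [hC, Subgroup.zpowers_eq_closure, Subgroup.centralizer_closure]
  have hCn : C.Normal := by
    rw [hCe]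
    exact Subgroup.normal_centralizer
  have hCy : ∀ c ∈ C, c * y = y * c := fun c hc => (Subgroup.mem_centralizer_singleton_iff.1 hc)
  have hyC : y ∈ C := Subgroup.mem_centralizer_singleton_iff.2 rfl
  have key : 4 * (Nat.card K).factorization p ≤ f * m + 4 * m.factorization p := by
    by_cases hpC : p ∣ Nat.card C
    · -- `|K|` divides `|C| m`
      have := Fact.mk h.prime
      obtain ⟨g, hg⟩ := exists_prime_orderOf_dvd_card' (G := C) p hpC
      obtain ⟨-, h1⟩ := h.ext_data hExt hy (g := (g : K)) (by rw [Subgroup.orderOf_coe]; exact hg) (hCy _ g.2)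
      have h2 := h1 K (fun k hk => by
        have h3 := hn.conj_mem y (Subgroup.mem_zpowers y) ⟨k, hk⟩
        obtain ⟨i, hi⟩ := Subgroup.mem_zpowers_iff.1 h3
        exact Subgroup.mem_zpowers_iff.2 ⟨i, congrArg Subtype.val hi⟩)
      have h3 : (K ⊓ Subgroup.centralizer ({(y : V ≃ₗ[F] V)} : Set (V ≃ₗ[F] V)) : Subgroup (V ≃ₗ[F] V)) = C.map K.subtype := by
        ext x
        constructor
        · rintro ⟨hx, hx'⟩
          refine ⟨⟨x, hx⟩, ?_, rfl⟩
          exact Subgroup.mem_centralizer_singleton_iff.2 (Subtype.ext (Subgroup.mem_centralizer_singleton_iff.1 hx'))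
        · rintro ⟨z, hz, rfl⟩
          exact ⟨z.2, Subgroup.mem_centralizer_singleton_iff.2 (congrArg Subtype.val (hCy z hz))⟩
      rw [h3, Subgroup.card_map_of_injective K.subtype_injective] at h2
      have h4 := fac_le (p := p) h2 (mul_ne_zero Nat.card_pos.ne' (by omega))
      rw [Nat.factorization_mul Nat.card_pos.ne' (by omega), Finsupp.add_apply] at h4
      have h5 := h.four_fac_le hExt hDick hy hCn hCy hyC
      omega
    · have h1 : Nat.card K = Nat.card C * nc y := by
        rw [← card_nc, Subgroup.normalizer_eq_top_iff.2 hn, Subgroup.card_top]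
      have h2 := h.fac_nc hy
      have h3 := fac_two_mul_le h.prime (n := m) (by omega)
      rw [h1, Nat.factorization_mul Nat.card_pos.ne' (nc_pos y).ne', Finsupp.add_apply,
        Nat.factorization_eq_zero_of_not_dvd hpC, zero_add]
      omega
  exact num_small h.prime h.fpos h.hm hm h.sz h.val key

end Bt

end Cfsg.Agent.H920.Rg
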