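import Cfsg.Agent.H920.Rg.CaseB

/-!
# S3691, residual case D+1 beta: components of characteristic `p` (helper920)
-/

set_option autoImplicit false
set_option linter.unusedSectionVars false

open Cfsg Matrix Module
open QuadraticMap Cfsg.Agent.LieClassical.OrthCore Cfsg.Agent.LieClassical.OrthTrans
  Cfsg.Agent.ClassicalGeometry.OrthSemi Cfsg.Agent.H449.Reg Cfsg.Agent.H883.Sub
open Cfsg.Agent.H890.SpParity (fix mem_fix even_E)
open Cfsg.Agent.H997.Rg
open Cfsg.Agent.SignalizersComponents.Components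

namespace Cfsg.Agent.H920.Rg

universe u v

theorem f_mul_sub {f m : ℕ} (hm : 4 ≤ m) : f * (m - 1) + f = f * m := by
  obtain ⟨k, rfl⟩ : ∃ k, m = k + 1 := ⟨m - 1, by omega⟩
  rw [Nat.add_sub_cancel]; ring

/-- numbers for `L₂(p ^ b)`, `p` odd -/
theorem num_psl_odd {p f m b : ℕ} (hp : p.Prime) (hp2 : p ≠ 2) (hf : 1 ≤ f) (hm : 4 ≤ m) (hb : 2 * b = f * m)
    (hv : f * (m - 1) ≤ b + b.factorization p + (2 * f).factorization p) : False := by
  have hp3 : 3 ≤ p := by
    have := hp.two_le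
    omega
  have h1 := f_mul_sub (f := f) hm
  have hb0 : b ≠ 0 := by
    rintro rfl
    have : 0 < f * m := by positivity
    omega
  have h2 := three_fac_le hp3 (n := b) hb0
  have h3 := three_fac_le hp3 (n := f) (by omega)
  rw [fac_two_mul hp hp2 (by omega)] at hv
  rcases Nat.lt_or_ge m 5 with h5 | h5
  · have hm4 : m = 4 := by omega
    subst hm4
    have hb2 : b = 2 * f := by omega
    rw [hb2, fac_two_mul hp hp2 (by omega)] at hv
    omega
  · have h6 : f * 5 ≤ f * m := Nat.mul_le_mul_left f h5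
    omega

/-- numbers for `L₂(2 ^ b)` -/
theorem num_psl_two {f m b : ℕ} (hf : 1 ≤ f) (hm : 4 ≤ m) (hS : SzM m (2 ^ f)) (hb : 2 * b = f * m)
    (hv : f * (m - 1) ≤ b + b.factorization 2) : False := by
  have h1 := f_mul_sub (f := f) hm
  have hb0 : b ≠ 0 := by
    rintro rfl
    have : 0 < f * m := by positivity
    omega
  have h2 := two_fac_le (n := b) hb0
  have h3 := two_fac_le (n := f) (by omega)
  rcases Nat.lt_or_ge m 5 with h5 | h5
  · have hm4 : m = 4 := by omega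
    subst hm4
    have hf4 := (f_le_of_sz hS).1 rfl
    have hb2 : b = 2 * f := by omega
    rw [hb2, fac_two_mul' (by omega)] at hv
    omega
  · have h6 : f * 5 ≤ f * m := Nat.mul_le_mul_left f h5
    omega

/-- numbers for `Sz(2 ^ b)` -/
theorem num_sz {f m b v : ℕ} (hf : 1 ≤ f) (hm : 4 ≤ m) (he : Even m) (hS : SzM m (2 ^ f)) (hb : 4 * b = f * m) (hbo : Odd b)
    (hvb : 2 * v ≤ b) (hv : f * (m - 1) ≤ v + 2 * b + (2 * f).factorization 2) : False := by
  have h1 := f_mul_sub (f := f) hm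
  rw [fac_two_mul' (by omega)] at hv
  have h3 := two_fac_le (n := f) (by omega)
  obtain ⟨hs4, hs7⟩ := f_le_of_sz hS
  rcases Nat.lt_or_ge m 8 with h5 | h5
  · have hm4 : m = 4 ∨ m = 6 := by
      rw [Nat.even_iff] at he
      omega
    rcases hm4 with rfl | rfl
    · have h6 := hs4 rfl
      have hbf : b = f := by omega
      rw [Nat.factorization_eq_zero_of_not_dvd (n := f) (by
        rw [← hbf]
        intro h7
        exact (Nat.not_even_iff_odd.2 hbo) (even_iff_two_dvd.2 h7))] at hv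
      omega
    · have := hs7 (by norm_num)
      omega
  · have h6 : f * 8 ≤ f * m := Nat.mul_le_mul_left f h5
    omega

variable {F : Type u} {V : Type v} [Field F] [AddCommGroup V] [Module F V] {Q : QuadraticForm F V}

namespace Bt

variable [Finite F] [FiniteDimensional F V] {K : Subgroup (V ≃ₗ[F] V)} {Γ : Subgroup (Gam Q)} {p f m r : ℕ} {c : F}
  (h : Bt Q K Γ p f m r c)
include h

/-- **`L / Z(L) = Sz(2 ^ b)`** -/
theorem false_of_sz (hExt : StmtExt.{u, v}) (hDick : StmtDick.{v, v}) (hm : Even m) (hp2 : p = 2) {y : K}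
    (hy : orderOf y = r) {L : Subgroup K} (hLn : L.Normal) (hyL : y ∈ L) (hyC : y ∉ Subgroup.centralizer (L : Set K))
    (hZ : Subgroup.center (↥L ⧸ Subgroup.center ↥L) = ⊥)
    (hd : Nat.card K ∣ Nat.card (Subgroup.centralizer (L : Set K)) * Nat.card (MulAut (↥L ⧸ Subgroup.center ↥L)))
    (hd2 : Nat.card (↥L ⧸ Subgroup.center ↥L) * Nat.card (Subgroup.centralizer (L : Set K)) ∣ Nat.card K)
    (hS : IsSuzuki (↥L ⧸ Subgroup.center ↥L)) : False := by
  have := h.finGL
  subst hp2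
  have hm4 := h.hm
  have hfm := h.fm4
  obtain ⟨b, hbo, hb3, hc, ho⟩ := suz_data hZ hS
  set x := ((2 ^ b) ^ 2 + 1) * (2 ^ b - 1) with hx
  have hb1 : 1 ≤ 2 ^ b := Nat.one_le_two_pow
  have hodd1 : ¬ 2 ∣ x := by
    intro h2
    have he : 2 ∣ 2 ^ b := dvd_pow_self 2 (by omega)
    rcases (Nat.Prime.dvd_mul Nat.prime_two).1 h2 with h3 | h3
    · have h4 : 2 ∣ (2 ^ b) ^ 2 := dvd_pow he two_ne_zero
      omega
    · omega
  have hx0 : x ≠ 0 := fun h0 => hodd1 (by rw [h0]; exact dvd_zero 2)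
  have hxcop : Nat.Coprime 2 x := (Nat.Prime.coprime_iff_not_dvd Nat.prime_two).2 hodd1
  have hcS : Nat.card (↥L ⧸ Subgroup.center ↥L) = (2 ^ b) ^ 2 * x := by rw [hc, hx]; ring
  have hrx : r ∣ x := by
    have h1 := dvd_card_quot h.rprime hy hyL hyC
    rw [hcS] at h1
    refine ((Nat.Prime.dvd_mul h.rprime).1 h1).resolve_left fun h2 => ?_
    exact h.not_two ((Nat.prime_dvd_prime_iff_eq h.rprime Nat.prime_two).1
      (h.rprime.dvd_of_dvd_pow (h.rprime.dvd_of_dvd_pow h2)))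
  have h0' : 2 ^ (b * 4) - 1 = x * (2 ^ b + 1) := by
    have h1 := Nat.sq_sub_sq ((2 ^ b) ^ 2) 1
    have h2 := Nat.sq_sub_sq (2 ^ b) 1
    rw [one_pow] at h1 h2
    rw [show b * 4 = b * 2 * 2 by ring, pow_mul, pow_mul, h1, h2, hx]
    ring
  have hxK : x ∣ 2 ^ (f * m) - 1 := by
    have h1 := h.dvd_of_coprime hxcop (k := 1) (by
      rw [one_mul]
      exact (Dvd.intro_left _ hcS.symm).trans (h.card_S_dvd L))
    rwa [one_mul] at h1
  have h1le : 4 * b ≤ f * m := plus_C h.ord (C := 1) (M := 2 ^ (f * m) - 1) h.hQ (by omega) hrx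
    (Nat.le_of_dvd (by have := h.hQ; omega) hxK)
  have hfmb : f * m ∣ b * 4 := by
    rw [← h.ord]
    apply orderOf_dvd_of_dvd Nat.prime_two
    rw [h0']
    exact hrx.mul_right _
  have hb4 : 4 * b = f * m := le_antisymm h1le (by rw [mul_comm 4]; exact Nat.le_of_dvd (by omega) hfmb)
  -- the centraliser
  set v := (Nat.card (Subgroup.centralizer (L : Set K))).factorization 2 with hv
  have hvb : 2 * v ≤ b := by
    by_cases hpC : 2 ∣ Nat.card (Subgroup.centralizer (L : Set K))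
    swap
    · rw [hv, Nat.factorization_eq_zero_of_not_dvd hpC]; omega
    obtain ⟨C0, -, -, h1, -⟩ := h.dick_data hExt hDick hy (h.cent_normal hLn) (h.cent_comm hyL) hpC
    rcases h1 with h1 | h1
    · omega
    · have hv0 : 0 < v := Nat.prime_two.factorization_pos_of_dvd Nat.card_pos.ne' hpC
      have hcop : Nat.Coprime 2 ((2 ^ v) ^ 2 - 1) := by
        rw [← pow_mul]
        exact coprime_pow_sub_one Nat.prime_two (by omega)
      have h2 : (2 ^ v) ^ 2 - 1 ∣ Nat.card (Subgroup.centralizer (L : Set K)) :=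
        (Nat.Coprime.dvd_of_dvd_mul_left hcop.symm h1).trans (Subgroup.card_subgroup_dvd_card C0)
      have h3 : x * ((2 ^ v) ^ 2 - 1) ∣ 2 ^ (f * m) - 1 := by
        have h4 := h.dvd_of_coprime (Nat.Coprime.mul_right hxcop hcop) (k := 1) (by
          rw [one_mul]
          refine (Nat.mul_dvd_mul ?_ h2).trans hd2
          exact Dvd.intro_left _ hcS.symm)
        rwa [one_mul] at h4
      rw [← hb4, mul_comm 4 b, h0'] at h3
      have h4 := Nat.dvd_of_mul_dvd_mul_left (Nat.pos_of_ne_zero hx0) h3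
      have h5 := Nat.le_of_dvd (by omega) h4
      have h6 : 2 ^ (v * 2) < 2 ^ (b + 1) := by
        rw [pow_mul, pow_succ 2 b]
        have h7 : 2 ^ 3 ≤ 2 ^ b := Nat.pow_le_pow_right two_pos hb3
        omega
      have h7 := (Nat.pow_lt_pow_iff_right (by norm_num)).1 h6
      omega
  -- the automorphism group
  have hA : Nat.card (MulAut (↥L ⧸ Subgroup.center ↥L)) = (2 ^ b) ^ 2 * x * b := by rw [card_mulAut hZ, ho, hcS]
  have hq : (2 ^ b) ^ 2 ≠ 0 := by positivity
  have hb0 : b ≠ 0 := by omega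
  have hA0 : (2 ^ b) ^ 2 * x * b ≠ 0 := mul_ne_zero (mul_ne_zero hq hx0) hb0
  have hKv := h.fac_le_cent (L := L) (n := Nat.card (MulAut (↥L ⧸ Subgroup.center ↥L))) (by rw [hA]; exact hA0) hd
  rw [hA, Nat.factorization_mul (mul_ne_zero hq hx0) hb0, Nat.factorization_mul hq hx0, Finsupp.add_apply, Finsupp.add_apply,
    Nat.factorization_eq_zero_of_not_dvd hodd1, Nat.factorization_eq_zero_of_not_dvd (n := b) (fun h7 =>
      (Nat.not_even_iff_odd.2 hbo) (even_iff_two_dvd.2 h7)), ← pow_mul, Nat.factorization_pow, Finsupp.smul_apply,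
    Nat.prime_two.factorization_self] at hKv
  have hval := h.val
  refine num_sz h.fpos h.hm hm h.sz hb4 hbo hvb ?_
  simp only [smul_eq_mul, mul_one, add_zero] at hKv
  omega

/-- `L / Z(L) = L₂(p ^ b)` : `2 b = f m` -/
theorem two_b {y : K} (hy : orderOf y = r) {L : Subgroup K} (hyL : y ∈ L)
    (hyC : y ∉ Subgroup.centralizer (L : Set K)) {b g : ℕ} (hb : b ≠ 0) (hg : g ∣ 2)
    (hcS : Nat.card (↥L ⧸ Subgroup.center ↥L) * g = p ^ b * ((p ^ b) ^ 2 - 1)) : 2 * b = f * m := by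
  have := h.finGL
  have hfm := h.fm4
  have hcop : Nat.Coprime p ((p ^ b) ^ 2 - 1) := by
    rw [← pow_mul]
    exact coprime_pow_sub_one h.prime (by omega)
  have hrS : r ∣ (p ^ b) ^ 2 - 1 := by
    have h1 := (dvd_card_quot h.rprime hy hyL hyC).mul_right g
    rw [hcS] at h1
    refine ((Nat.Prime.dvd_mul h.rprime).1 h1).resolve_left fun h2 => ?_
    exact h.rnep ((Nat.prime_dvd_prime_iff_eq h.rprime h.prime).1 (h.rprime.dvd_of_dvd_pow h2))
  have h1 : f * m ∣ b * 2 := by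
    rw [← h.ord]
    apply orderOf_dvd_of_dvd h.prime
    rwa [pow_mul]
  have h2 : (p ^ b) ^ 2 - 1 ∣ 2 * Nat.card K := by
    have h3 : (p ^ b) ^ 2 - 1 ∣ Nat.card (↥L ⧸ Subgroup.center ↥L) * g := by rw [hcS]; exact dvd_mul_left _ _
    refine h3.trans ?_
    rw [mul_comm 2]
    exact Nat.mul_dvd_mul (h.card_S_dvd L) hg
  have h3 := (two_mul_dvd h.prime (e := f * m) (by omega) (h.dvd_of_coprime hcop h2)).2
  exact Nat.dvd_antisymm h3 (by rwa [mul_comm 2])

/-- **`L / Z(L) = L₂(p ^ b)`, `p` odd** -/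
theorem false_of_psl_odd (hExt : StmtExt.{u, v}) (hDick : StmtDick.{v, v}) (hp2 : p ≠ 2) {y : K}
    (hy : orderOf y = r) {L : Subgroup K} (hLn : L.Normal) (hyL : y ∈ L) (hyC : y ∉ Subgroup.centralizer (L : Set K))
    (hZ : Subgroup.center (↥L ⧸ Subgroup.center ↥L) = ⊥)
    (hd : Nat.card K ∣ Nat.card (Subgroup.centralizer (L : Set K)) * Nat.card (MulAut (↥L ⧸ Subgroup.center ↥L)))
    {E : Type} [Field E] [Fintype E] {b : ℕ} (hE : Fintype.card E = p ^ b) (h4 : 4 ≤ p ^ b)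
    (e : ↥L ⧸ Subgroup.center ↥L ≃* ProjectiveSpecialLinearGroup (Fin 2) E) : False := by
  have := h.finGL
  obtain ⟨h1, h2, _⟩ := psl2_data hZ h.prime hE h4 e
  have hb : b ≠ 0 := by rintro rfl; rw [pow_zero] at h4; omega
  have hb2 := h.two_b hy hyL hyC hb (Nat.gcd_dvd_left 2 (p ^ b - 1)) h2
  have hodd : Odd (p ^ b) := (h.prime.odd_of_ne_two hp2).pow
  have h8 : 8 ∣ (p ^ b) ^ 2 - 1 := by
    obtain ⟨k, hk⟩ := hodd
    rw [hk]
    have h10 : (2 * k + 1) ^ 2 - 1 = 4 * (k * (k + 1)) := by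
      have : (2 * k + 1) ^ 2 = 4 * (k * (k + 1)) + 1 := by ring
      omega
    rw [h10]
    exact Nat.mul_dvd_mul_left 4 (Nat.even_mul_succ_self k).two_dvd
  have h4S : 4 ∣ Nat.card (↥L ⧸ Subgroup.center ↥L) := by
    have h10 : 4 * 2 ∣ Nat.card (↥L ⧸ Subgroup.center ↥L) * 2 := by
      have h11 : 8 ∣ Nat.card (↥L ⧸ Subgroup.center ↥L) * Nat.gcd 2 (p ^ b - 1) := by
        rw [h2]
        exact h8.mul_left _
      exact h11.trans (Nat.mul_dvd_mul_left _ (Nat.gcd_dvd_left _ _))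
    exact Nat.dvd_of_mul_dvd_mul_right two_pos h10
  have hC := h.cent_odd hExt hDick hp2 hy hLn hyL (h4S.trans (Subgroup.card_quotient_dvd_card _))
  have hq0 : p ^ b ≠ 0 := pow_ne_zero _ h.prime.ne_zero
  have hsq0 : (p ^ b) ^ 2 - 1 ≠ 0 := by
    have : 4 ^ 2 ≤ (p ^ b) ^ 2 := Nat.pow_le_pow_left h4 2
    omega
  have hnd : ¬ p ∣ (p ^ b) ^ 2 - 1 := by
    rw [← pow_mul]
    exact not_dvd_sub_one h.prime (by omega)
  have hv := h.fac_le_cent (L := L) (n := Nat.card (MulAut (↥L ⧸ Subgroup.center ↥L)))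
    (by rw [h1]; exact mul_ne_zero hb (mul_ne_zero hq0 hsq0)) hd
  rw [Nat.factorization_eq_zero_of_not_dvd hC, zero_add, h1, Nat.factorization_mul hb (mul_ne_zero hq0 hsq0),
    Nat.factorization_mul hq0 hsq0, Finsupp.add_apply, Finsupp.add_apply, Nat.factorization_eq_zero_of_not_dvd hnd,
    Nat.factorization_pow, Finsupp.smul_apply, h.prime.factorization_self] at hv
  simp only [smul_eq_mul, mul_one, add_zero] at hv
  have hval := h.val
  exact num_psl_odd h.prime hp2 h.fpos h.hm hb2 (by omega)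

end Bt

end Cfsg.Agent.H920.Rg
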