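import Cfsg.Agent.H920.Rg.CaseC

/-!
# S3691, residual case D+1 beta: components `L₂(2 ^ b)` (helper920)
-/

set_option autoImplicit false
set_option linter.unusedSectionVars false

open Cfsg Matrix Module
open QuadraticMap Cfsg.Agent.LieClassical.OrthCore Cfsg.Agent.LieClassical.OrthTrans
  Cfsg.Agent.ClassicalGeometry.OrthSemi Cfsg.Agent.H449.Reg Cfsg.Agent.H883.Sub
open Cfsg.Agent.H890.SpParity (fix mem_fix even_E)
open Cfsg.Agent.H997.Rg
open Cfsg.Agent.SignalizersComponents.Components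

namespace Cfsg.Agent.H920.Rg

universe u v

/-- an automorphism fixes a simple normal subgroup containing an element of order `r` if the Sylow `r`-subgroups are cyclic -/
theorem map_eq_self {K : Type*} [Group K] [Finite K] {r : ℕ} (hr : r.Prime) (hcyc : ∀ P : Sylow r K, IsCyclic P) {L : Subgroup K}
    (hL : L.Normal) (hs : IsSimpleGroup L) (hd : r ∣ Nat.card (↥L ⧸ Subgroup.center ↥L)) {y : K} (hy : orderOf y = r)
    (hyL : y ∈ L) (α : MulAut K) : L.map α.toMonoidHom = L := by
  have h1 : α y ∈ L := mem_of_dvd hr hcyc hL hd (z := α y) (by rw [MulEquiv.orderOf_eq]; exact hy)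
  have hn : (L.map α.toMonoidHom).Normal := hL.map _ α.surjective
  have h2 : ((L.map α.toMonoidHom).subgroupOf L).Normal := inferInstance
  have h3 : L ≤ L.map α.toMonoidHom := by
    rcases h2.eq_bot_or_eq_top with h4 | h4
    · exfalso
      have h5 : (⟨α y, h1⟩ : L) ∈ (L.map α.toMonoidHom).subgroupOf L := ⟨y, hyL, rfl⟩
      rw [h4, Subgroup.mem_bot] at h5
      have h6 : α y = 1 := congrArg Subtype.val h5
      rw [map_eq_one_iff α α.injective] at h6
      rw [h6, orderOf_one] at hy
      exact hr.one_lt.ne hy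
    · exact Subgroup.subgroupOf_eq_top.1 h4
  symm
  apply Subgroup.eq_of_le_of_card_ge h3
  rw [Subgroup.card_map_of_injective α.injective]

/-- restriction of automorphisms -/
def resAut {K : Type*} [Group K] {A : Type*} [Group A] (φ : A →* MulAut K) (L : Subgroup K)
    (hL : ∀ a : A, L.map (φ a).toMonoidHom = L) : A →* MulAut L where
  toFun a :=
    { toFun := fun x => ⟨φ a x, by
        have h1 : φ a x ∈ L.map (φ a).toMonoidHom := ⟨x, x.2, rfl⟩
        rwa [hL] at h1⟩
      invFun := fun x => ⟨φ a⁻¹ x, by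
        have h1 : φ a⁻¹ x ∈ L.map (φ a⁻¹).toMonoidHom := ⟨x, x.2, rfl⟩
        rwa [hL] at h1⟩
      left_inv := fun x => Subtype.ext (by
        show φ a⁻¹ (φ a x) = x
        rw [← MulAut.mul_apply, ← map_mul, inv_mul_cancel, map_one]
        rfl)
      right_inv := fun x => Subtype.ext (by
        show φ a (φ a⁻¹ x) = x
        rw [← MulAut.mul_apply, ← map_mul, mul_inv_cancel, map_one]
        rfl)
      map_mul' := fun x y => Subtype.ext (map_mul (φ a) (x : K) y) }
  map_one' := by
    ext x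
    show φ 1 (x : K) = x
    rw [map_one]
    rfl
  map_mul' a b := by
    ext x
    show φ (a * b) (x : K) = φ a (φ b x)
    rw [map_mul]
    rfl

theorem resAut_apply {K : Type*} [Group K] {A : Type*} [Group A] (φ : A →* MulAut K) (L : Subgroup K)
    (hL : ∀ a : A, L.map (φ a).toMonoidHom = L) (a : A) (x : L) : ((resAut φ L hL a x : L) : K) = φ a x := rfl

variable {F : Type u} {V : Type v} [Field F] [AddCommGroup V] [Module F V] {Q : QuadraticForm F V}

namespace Bt

variable [Finite F] [FiniteDimensional F V] {K : Subgroup (V ≃ₗ[F] V)} {Γ : Subgroup (Gam Q)} {p f m r : ℕ} {c : F}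
  (h : Bt Q K Γ p f m r c)

/-- the action of `Γ` on `K` -/
def actK : Γ →* MulAut K where
  toFun M :=
    { toFun := fun k => ⟨conjLin M.1 k, h.conj _ M.2 _ k.2⟩
      invFun := fun k => ⟨conjLin M.1⁻¹ k, h.conj _ (Γ.inv_mem M.2) _ k.2⟩
      left_inv := fun k => Subtype.ext (by
        show conjLin M.1⁻¹ (conjLin M.1 k) = k
        rw [← conjLin_mul_left, inv_mul_cancel, conjLin_one_left])
      right_inv := fun k => Subtype.ext (by
        show conjLin M.1 (conjLin M.1⁻¹ k) = k
        rw [← conjLin_mul_left, mul_inv_cancel, conjLin_one_left])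
      map_mul' := fun a b => Subtype.ext (conjLin_mul M.1 a b) }
  map_one' := by
    ext k : 1
    exact Subtype.ext (conjLin_one_left _)
  map_mul' M N := by
    ext k : 1
    exact Subtype.ext (conjLin_mul_left M.1 N.1 k)

theorem actK_apply (M : Γ) (k : K) : ((h.actK M k : K) : V ≃ₗ[F] V) = conjLin M.1 k := rfl

include h

/-- **`L / Z(L) = L₂(2 ^ b)`** -/
theorem false_of_psl_two (hInv : StmtInv.{u, v}) (hm : Even m) (hp2 : p = 2) {y : K}
    (hy : orderOf y = r) {L : Subgroup K} (hLn : L.Normal) (hyL : y ∈ L) (hyC : y ∉ Subgroup.centralizer (L : Set K))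
    (hsimple : IsSimpleGroup (↥L ⧸ Subgroup.center ↥L)) (hZ : Subgroup.center (↥L ⧸ Subgroup.center ↥L) = ⊥)
    (hd2 : Nat.card (↥L ⧸ Subgroup.center ↥L) * Nat.card (Subgroup.centralizer (L : Set K)) ∣ Nat.card K)
    {E : Type} [Field E] [Fintype E] {b : ℕ} (hE : Fintype.card E = p ^ b) (h4 : 4 ≤ p ^ b)
    (e : ↥L ⧸ Subgroup.center ↥L ≃* ProjectiveSpecialLinearGroup (Fin 2) E) : False := by
  have := h.finGL
  have := h.finV
  subst hp2
  have hfm := h.fm4
  have hm4 := h.hm
  obtain ⟨h1, h2, _⟩ := psl2_data hZ h.prime hE h4 e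
  have hb : b ≠ 0 := by rintro rfl; rw [pow_zero] at h4; omega
  have hb2 := h.two_b hy hyL hyC hb (Nat.gcd_dvd_left 2 (2 ^ b - 1)) h2
  have hcop : Nat.Coprime 2 ((2 ^ b) ^ 2 - 1) := by
    rw [← pow_mul]
    exact coprime_pow_sub_one h.prime (by omega)
  have hg : Nat.gcd 2 (2 ^ b - 1) = 1 := coprime_pow_sub_one Nat.prime_two hb
  rw [hg, mul_one] at h2
  have hq0 : 2 ^ b ≠ 0 := pow_ne_zero _ two_ne_zero
  have hsq0 : (2 ^ b) ^ 2 - 1 ≠ 0 := by
    have : 4 ^ 2 ≤ (2 ^ b) ^ 2 := Nat.pow_le_pow_left h4 2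
    omega
  -- the centraliser is trivial
  have hC : Subgroup.centralizer (L : Set K) = ⊥ := by
    have h5 : IsPGroup 2 (Subgroup.centralizer (L : Set K)) := by
      set n := Nat.card (Subgroup.centralizer (L : Set K)) with hn
      set c' := n / 2 ^ n.factorization 2 with hc'
      have hn0 : n ≠ 0 := Nat.card_pos.ne'
      have h6 : 2 ^ n.factorization 2 * c' = n := Nat.ordProj_mul_ordCompl_eq_self n 2
      have h7 : Nat.Coprime 2 c' := Nat.coprime_ordCompl Nat.prime_two hn0
      have h8 : ((2 ^ b) ^ 2 - 1) * c' ∣ 1 * Nat.card K := by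
        rw [one_mul]
        refine (Nat.mul_dvd_mul ?_ ?_).trans hd2
        · rw [h2]; exact dvd_mul_left _ _
        · exact Dvd.intro_left _ h6
      have h9 := h.dvd_of_coprime (Nat.Coprime.mul_right hcop h7) h8
      have h10 : 1 * (2 ^ (f * m) - 1) = ((2 ^ b) ^ 2 - 1) * 1 := by
        rw [one_mul, mul_one, ← hb2, mul_comm 2 b, pow_mul]
      rw [h10] at h9
      have h11 := Nat.dvd_of_mul_dvd_mul_left (Nat.pos_of_ne_zero hsq0) h9
      have h12 : c' = 1 := Nat.dvd_one.1 h11
      rw [h12, mul_one] at h6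
      exact IsPGroup.of_card h6.symm
    have h6 := Lib.Cores.le_pCore (h.cent_normal hLn) h5
    rw [h.core] at h6
    exact le_bot_iff.1 h6
  -- `Z(L) = 1`
  have hZL : Subgroup.center ↥L = ⊥ := by
    rw [Subgroup.eq_bot_iff_forall]
    intro z hz
    have h5 : (z : K) ∈ Subgroup.centralizer (L : Set K) := by
      rw [Subgroup.mem_centralizer_iff]
      intro x hx
      exact congrArg Subtype.val (Subgroup.mem_center_iff.1 hz ⟨x, hx⟩)
    rw [hC, Subgroup.mem_bot] at h5
    exact Subtype.ext h5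
  have eL : ↥L ≃* ↥L ⧸ Subgroup.center ↥L :=
    (QuotientGroup.quotientBot (G := ↥L)).symm.trans (QuotientGroup.quotientMulEquivOfEq hZL.symm)
  have hLc : Nat.card L = 2 ^ b * ((2 ^ b) ^ 2 - 1) := by
    rw [Nat.card_congr eL.toEquiv]
    exact h2
  have hLs : IsSimpleGroup L := eL.isSimpleGroup
  have hfix := map_eq_self h.rprime (h.cyc.cyc r h.rprime h.not_two h.rnep) hLn hLs
    (dvd_card_quot h.rprime hy hyL hyC) hy hyL
  set ρ : Γ →* MulAut L := resAut h.actK L fun M => hfix (h.actK M) with hρ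
  -- the kernel has odd order
  have hker : ¬ 2 ∣ Nat.card ρ.ker := by
    intro hd
    have := Fact.mk Nat.prime_two
    obtain ⟨M, hM⟩ := exists_prime_orderOf_dvd_card' (G := ρ.ker) 2 hd
    set N : Gam Q := M.1.1 with hN
    have hNN : N * N = 1 := by
      have h5 := pow_orderOf_eq_one M
      rw [hM, pow_two] at h5
      exact congrArg (fun z : ρ.ker => z.1.1) h5
    have hNx : ∀ x : L, conjLin N ((x : K) : V ≃ₗ[F] V) = ((x : K) : V ≃ₗ[F] V) := by
      intro x
      have h5 : ρ M.1 = 1 := M.2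
      have h6 := congrArg (fun z : MulAut L => ((z x : L) : K)) h5
      have h7 : h.actK M.1 (x : K) = (x : K) := h6
      exact congrArg Subtype.val h7
    obtain ⟨k, hk⟩ := hInv F V Q f m b r h.good h.cardF h.fpos h.hm hm h.dim hb2 h.rprime h.ord (L.map K.subtype) (by
        rintro _ ⟨x, -, rfl⟩
        exact h.le x.2) (by
        rw [Subgroup.card_map_of_injective K.subtype_injective]; exact hLc)
      ⟨y, ⟨y, hyL, rfl⟩, by rw [Subgroup.orderOf_coe]; exact hy⟩ (by
        rintro _ ⟨x, -, rfl⟩ hxp hx2 w hw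
        have h5 := h.fix_bot x.2 hxp hx2
        have h6 : w ∈ fix (x : V ≃ₗ[F] V) := mem_fix.2 hw
        rwa [h5, Submodule.mem_bot] at h6) N hNN (by
        rintro _ ⟨x, hx, rfl⟩ w
        have h5 := conjLin_apply' N (x : V ≃ₗ[F] V) w
        rw [hNx ⟨x, hx⟩] at h5
        exact h5.symm)
    have hkK : (k : V ≃ₗ[F] V) ∈ K := h.mem k (by rw [hk]; exact M.1.2)
    have hkC : (⟨k, hkK⟩ : K) ∈ Subgroup.centralizer (L : Set K) := by
      rw [Subgroup.mem_centralizer_iff]
      intro x hx
      apply Subtype.ext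
      ext w
      have h5 := conjLin_apply' N (x : V ≃ₗ[F] V) w
      rw [hNx ⟨x, hx⟩, ← hk] at h5
      exact h5
    rw [hC, Subgroup.mem_bot] at hkC
    have hk1 : (k : V ≃ₗ[F] V) = 1 := congrArg Subtype.val hkC
    have hN1 : N = 1 := by
      rw [← hk]
      apply Subtype.ext
      ext w
      change (k : V ≃ₗ[F] V) w = w
      rw [hk1]
      rfl
    have hM1 : M = 1 := Subtype.ext (Subtype.ext hN1)
    rw [hM1, orderOf_one] at hM
    omega
  -- orders
  have hAut : Nat.card (MulAut L) = b * (2 ^ b * ((2 ^ b) ^ 2 - 1)) := by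
    rw [Nat.card_congr (MulAut.congr eL).toEquiv]
    exact h1
  have h5 : Nat.card Γ = Nat.card ρ.ker * Nat.card ρ.range := by
    rw [← Subgroup.index_ker, Subgroup.card_mul_index]
  have h6 := h.valG rfl
  rw [h5] at h6
  have h7 : 2 ^ (f * (m - 1)) ∣ Nat.card ρ.range :=
    Nat.Coprime.dvd_of_dvd_mul_left (Nat.Coprime.pow_left _ ((Nat.Prime.coprime_iff_not_dvd Nat.prime_two).2 hker)) h6
  have h8 := h7.trans (Subgroup.card_subgroup_dvd_card ρ.range)
  rw [hAut] at h8
  have h9 := (Nat.prime_two.pow_dvd_iff_le_factorization (mul_ne_zero hb (mul_ne_zero hq0 hsq0))).1 h8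
  rw [Nat.factorization_mul hb (mul_ne_zero hq0 hsq0),
    Nat.factorization_mul hq0 hsq0, Finsupp.add_apply, Finsupp.add_apply,
    Nat.factorization_eq_zero_of_not_dvd ((Nat.Prime.coprime_iff_not_dvd Nat.prime_two).1 hcop),
    Nat.factorization_pow, Finsupp.smul_apply, Nat.prime_two.factorization_self] at h9
  simp only [smul_eq_mul, mul_one, add_zero] at h9
  exact num_psl_two h.fpos h.hm h.sz hb2 (by omega)

end Bt

end Cfsg.Agent.H920.Rg
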