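import Cfsg.Agent.H920.Rg.Odd

/-!
# S3691, residual case D+1 beta: centralisers of `y` (helper920)
-/

set_option autoImplicit false
set_option linter.unusedSectionVars false

open Cfsg Matrix Module
open QuadraticMap Cfsg.Agent.LieClassical.OrthCore Cfsg.Agent.LieClassical.OrthTrans
  Cfsg.Agent.ClassicalGeometry.OrthSemi Cfsg.Agent.H449.Reg Cfsg.Agent.H883.Sub
open Cfsg.Agent.H890.SpParity (fix mem_fix even_E)
open Cfsg.Agent.H997.Rg

namespace Cfsg.Agent.H920.Rg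

universe u v

/-! ### numbers -/

theorem two_mul_dvd {p v e : ℕ} (hp : p.Prime) (he : 0 < e) (h : (p ^ v) ^ 2 - 1 ∣ 2 * (p ^ e - 1)) : 0 < v ∧ 2 * v ∣ e := by
  have hv : 0 < v := by
    rcases Nat.eq_zero_or_pos v with h0 | h0
    · exfalso
      rw [h0, pow_zero, one_pow, Nat.sub_self, zero_dvd_iff] at h
      have : 1 < p ^ e := Nat.one_lt_pow he.ne' hp.one_lt
      omega
    · exact h0
  refine ⟨hv, ?_⟩
  rw [← pow_mul, mul_comm v 2] at h
  have h1 : p ^ (2 * v) - 1 ∣ 2 * (p ^ (2 * v) - 1) := Dvd.intro_left 2 rfl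
  have h2 := Nat.dvd_gcd h h1
  rw [Nat.gcd_mul_left, Nat.pow_sub_one_gcd_pow_sub_one] at h2
  set d := Nat.gcd e (2 * v) with hd
  have hd0 : 0 < d := Nat.gcd_pos_of_pos_left _ he
  have h3 : 1 < p ^ d := Nat.one_lt_pow hd0.ne' hp.one_lt
  have h4 := Nat.le_of_dvd (by omega) h2
  obtain ⟨k, hk⟩ : d ∣ 2 * v := Nat.gcd_dvd_right _ _
  have hk0 : 0 < k := by
    rcases Nat.eq_zero_or_pos k with h0 | h0
    · rw [h0, mul_zero] at hk; omega
    · exact h0
  have hk1 : k = 1 := by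
    by_contra hcon
    have h5 : d * 2 ≤ 2 * v := by
      rw [hk]
      exact Nat.mul_le_mul_left d (by omega)
    have h6 : p ^ d ≤ p ^ v := Nat.pow_le_pow_right hp.pos (by omega)
    have h7 : p ^ (2 * v) = p ^ v * p ^ v := by rw [two_mul, pow_add]
    have h8 : 2 ≤ p ^ v := by omega
    have h9 : 2 * p ^ v ≤ p ^ v * p ^ v := Nat.mul_le_mul_right _ h8
    omega
  rw [hk1, mul_one] at hk
  rw [hk]
  exact Nat.gcd_dvd_left _ _

variable {F : Type u} {V : Type v} [Field F] [AddCommGroup V] [Module F V] {Q : QuadraticForm F V}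

namespace Bt

variable [Finite F] [FiniteDimensional F V] {K : Subgroup (V ≃ₗ[F] V)} {Γ : Subgroup (Gam Q)} {p f m r : ℕ} {c : F}
  (h : Bt Q K Γ p f m r c)
include h

theorem not_two : r ≠ 2 := by
  have := h.r5
  omega

theorem core_sub {C : Subgroup K} (hC : C.Normal) : pCore p C = ⊥ := by
  have h1 := Lib.Cores.map_subtype_pCore p hC
  rw [h.core, inf_bot_eq] at h1
  rwa [Subgroup.map_eq_bot_iff_of_injective _ C.subtype_injective] at h1

/-- numbers dividing `2 |K|` and prime to `p` -/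
theorem dvd_of_coprime {x k : ℕ} (hx : Nat.Coprime p x) (hd : x ∣ k * Nat.card K) : x ∣ k * (p ^ (f * m) - 1) := by
  have h1 := hd.trans (Nat.mul_dvd_mul_left k h.dvd)
  have h2 : k * (p ^ (f * (m - 1)) * (p ^ (f * m) - 1)) = p ^ (f * (m - 1)) * (k * (p ^ (f * m) - 1)) := by ring
  rw [h2] at h1
  exact Nat.Coprime.dvd_of_dvd_mul_left (Nat.Coprime.pow_left _ hx).symm h1

theorem fix_y {y : K} (hy : orderOf y = r) (v : V) (hv : (y : V ≃ₗ[F] V) v = v) : v = 0 := by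
  have h2 := h.fix_bot y.2 (by rw [Subgroup.orderOf_coe, hy]; exact h.rprime) (by rw [Subgroup.orderOf_coe, hy]; exact h.rnep)
  have h3 : v ∈ fix (y : V ≃ₗ[F] V) := mem_fix.2 hv
  rwa [h2, Submodule.mem_bot] at h3

/-- the extension field -/
theorem ext_data (hExt : StmtExt.{u, v}) {y g : K} (hy : orderOf y = r) (hg : orderOf g = p) (hgy : g * y = y * g) :
    (∃ (E : Type v) (_ : Field E) (_ : Fintype E)
      (φ : Subgroup.centralizer ({(y : V ≃ₗ[F] V)} : Set (V ≃ₗ[F] V)) →* GL (Fin 2) E),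
      CharP E p ∧ Function.Injective φ ∧ Nat.card E = p ^ (f * m) ∧
      ∀ z : Subgroup.centralizer ({(y : V ≃ₗ[F] V)} : Set (V ≃ₗ[F] V)), (z : V ≃ₗ[F] V) = y →
        ∃ c : E, (φ z : Matrix (Fin 2) (Fin 2) E) = Matrix.scalar (Fin 2) c) ∧
    (∀ Γ : Subgroup (V ≃ₗ[F] V), (∀ g ∈ Γ, g * (y : V ≃ₗ[F] V) * g⁻¹ ∈ Subgroup.zpowers (y : V ≃ₗ[F] V)) →
      Nat.card Γ ∣ Nat.card (Γ ⊓ Subgroup.centralizer ({(y : V ≃ₗ[F] V)} : Set (V ≃ₗ[F] V)) :
        Subgroup (V ≃ₗ[F] V)) * m) := by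
  have h1 := hExt F V p f m r h.prime h.cardF h.rprime h.ord h.fpos (by have := h.hm; omega) h.dim
      (y : V ≃ₗ[F] V) (g : V ≃ₗ[F] V) (by rw [Subgroup.orderOf_coe]; exact hy) (h.fix_y hy)
      (congrArg Subtype.val hgy) (by rw [Subgroup.orderOf_coe]; exact hg)
  exact ⟨h1.1, h1.2.1⟩

/-- **normal subgroups in the centraliser of `y`** -/
theorem dick_data (hExt : StmtExt.{u, v}) (hDick : StmtDick.{v, v}) {y : K} (hy : orderOf y = r) {C : Subgroup K}
    (hCn : C.Normal) (hCy : ∀ c ∈ C, c * y = y * c) (hpC : p ∣ Nat.card C) :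
    ∃ C0 : Subgroup C, (p ≠ 2 → ∃ u ∈ C0, orderOf u = 4 ∧ ∃ t ∈ C0, t * u ≠ u * t) ∧
      (p = 2 → (Nat.card C).factorization 2 = 1 ∨ ∃ u ∈ C0, orderOf u = 3 ∧ ∃ t ∈ C0, t * u ≠ u * t) ∧
      ((Nat.card C).factorization p ≤ 1 ∨ (p ^ (Nat.card C).factorization p) ^ 2 - 1 ∣ 2 * Nat.card C0) ∧
      (y ∈ C → r * Nat.card C0 ∣ Nat.card C) := by
  have := h.finGL
  have := Fact.mk h.prime
  obtain ⟨g, hg⟩ := exists_prime_orderOf_dvd_card' (G := C) p hpC
  obtain ⟨⟨E, iE, iE', φ, hchar, hφ, hE, hsc⟩, -⟩ := h.ext_data hExt hy (g := (g : K))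
    (by rw [Subgroup.orderOf_coe]; exact hg) (hCy _ g.2)
  let ψ : C →* Subgroup.centralizer ({(y : V ≃ₗ[F] V)} : Set (V ≃ₗ[F] V)) :=
    { toFun := fun x => ⟨((x : K) : V ≃ₗ[F] V), Subgroup.mem_centralizer_singleton_iff.2 (congrArg Subtype.val (hCy _ x.2))⟩
      map_one' := rfl
      map_mul' := fun _ _ => rfl }
  have hψ : Function.Injective ψ := by
    intro a b hab
    have h1 := congrArg Subtype.val hab
    exact Subtype.ext (Subtype.ext h1)
  obtain ⟨C0, hdet, hp1, hp2, hcard⟩ := hDick E p C (φ.comp ψ) (hφ.comp hψ) hpC (h.core_sub hCn)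
  refine ⟨C0, hp1, hp2, hcard, fun hyC => ?_⟩
  set y' : C := ⟨y, hyC⟩ with hy'
  have hyo : orderOf y' = r := by rw [← Subgroup.orderOf_coe]; exact hy
  have hcomm : ∀ x : C, x * y' = y' * x := fun x => Subtype.ext (hCy _ x.2)
  -- powers of `y` in `C0`
  have hsc2 : ∀ z : C, z ∈ C0 → z ∈ Subgroup.zpowers y' → z = 1 := by
    intro z hz hzy
    obtain ⟨c, hc⟩ := hsc (ψ y') rfl
    obtain ⟨i, hi⟩ := Subgroup.mem_zpowers_iff.1 hzy
    -- `z ^ 2 = 1`
    have hz2 : z ^ 2 = 1 := by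
      obtain ⟨j, hj⟩ := (isOfFinOrder_of_finite y').mem_powers_iff_mem_zpowers.2 hzy
      have hj' : y' ^ j = z := hj
      have h1 : ((φ.comp ψ) z : Matrix (Fin 2) (Fin 2) E) = Matrix.scalar (Fin 2) (c ^ j) := by
        rw [← hj', map_pow, Units.val_pow_eq_pow_val, map_pow]
        congr 1
      have h2 := hdet z hz
      rw [h1, Matrix.scalar_apply, Matrix.det_diagonal, Fin.prod_univ_two] at h2
      apply hφ.comp hψ
      apply Units.ext
      change (((φ.comp ψ) (z ^ 2) : GL (Fin 2) E) : Matrix (Fin 2) (Fin 2) E) = (((φ.comp ψ) 1 : GL (Fin 2) E) : Matrix (Fin 2) (Fin 2) E)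
      rw [map_pow, Units.val_pow_eq_pow_val, h1, ← map_pow, pow_two, h2, map_one, map_one]
      rfl
    have h3 : orderOf z ∣ r := by
      rw [← hyo, ← hi]
      exact orderOf_dvd_of_mem_zpowers (Subgroup.zpow_mem _ (Subgroup.mem_zpowers y') i)
    have h4 : orderOf z ∣ 2 := orderOf_dvd_of_pow_eq_one hz2
    have h5 : orderOf z ∣ Nat.gcd r 2 := Nat.dvd_gcd h3 h4
    rw [(Nat.coprime_primes h.rprime Nat.prime_two).2 h.not_two] at h5
    exact orderOf_eq_one_iff.1 (Nat.dvd_one.1 h5)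
  let θ : Subgroup.zpowers y' × C0 →* C :=
    { toFun := fun x => (x.1 : C) * (x.2 : C)
      map_one' := by simp
      map_mul' := by
        rintro ⟨a, b⟩ ⟨a', b'⟩
        change (a : C) * a' * ((b : C) * b') = (a : C) * b * ((a' : C) * b')
        have h1 : (b : C) * a' = a' * b := by
          obtain ⟨i, hi⟩ := Subgroup.mem_zpowers_iff.1 a'.2
          rw [← hi]
          exact (show Commute (b : C) y' from hcomm _).zpow_right i
        calc (a : C) * a' * ((b : C) * b') = a * (a' * b) * b' := by group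
          _ = a * (b * a') * b' := by rw [h1]
          _ = _ := by group }
  have hθ : Function.Injective θ := by
    rw [injective_iff_map_eq_one]
    rintro ⟨a, b⟩ hab
    have h1 : (a : C) * b = 1 := hab
    have h2 : (a : C) = (b : C)⁻¹ := eq_inv_of_mul_eq_one_left h1
    have h3 : (a : C) = 1 := hsc2 _ (by rw [h2]; exact C0.inv_mem b.2) a.2
    rw [h3, one_mul] at h1
    exact Prod.ext (Subtype.ext h3) (Subtype.ext h1)
  have h1 := Subgroup.card_dvd_of_injective θ hθ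
  rwa [Nat.card_prod, Nat.card_zpowers, hyo] at h1

end Bt

end Cfsg.Agent.H920.Rg
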