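import Cfsg.Agent.H920.Rg.Frame

/-!
# S3691, residual case D+1 beta: `m` odd (helper920)
-/

set_option autoImplicit false
set_option linter.unusedSectionVars false

open Cfsg Matrix Module
open QuadraticMap Cfsg.Agent.LieClassical.OrthCore Cfsg.Agent.LieClassical.OrthTrans
  Cfsg.Agent.ClassicalGeometry.OrthSemi Cfsg.Agent.H449.Reg Cfsg.Agent.H883.Sub
open Cfsg.Agent.H890.SpParity (fix mem_fix even_E)
open Cfsg.Agent.H997.Rg

namespace Cfsg.Agent.H920.Rg

universe u v

theorem three_fac_le {p n : ℕ} (hp : 3 ≤ p) (hn : n ≠ 0) : 3 * n.factorization p ≤ n := by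
  have h1 : p ^ n.factorization p ≤ n := pow_fac_le hn
  have h2 : ∀ a : ℕ, 3 * a ≤ 3 ^ a := by
    intro a
    induction a with
    | zero => norm_num
    | succ a ih =>
      rcases Nat.eq_zero_or_pos a with rfl | h
      · norm_num
      · rw [pow_succ]; omega
  exact (h2 _).trans ((Nat.pow_le_pow_left hp _).trans h1)

theorem two_fac_le {n : ℕ} (hn : n ≠ 0) : 2 * n.factorization 2 ≤ n := by
  have h1 : 2 ^ n.factorization 2 ≤ n := pow_fac_le hn
  have h2 : ∀ a : ℕ, 2 * a ≤ 2 ^ a := by
    intro a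
    induction a with
    | zero => norm_num
    | succ a ih =>
      rcases Nat.eq_zero_or_pos a with rfl | h
      · norm_num
      · rw [pow_succ]; omega
  exact (h2 _).trans h1

variable {F : Type u} {V : Type v} [Field F] [AddCommGroup V] [Module F V] {Q : QuadraticForm F V}

namespace Bt

variable [Finite F] [FiniteDimensional F V] {K : Subgroup (V ≃ₗ[F] V)} {Γ : Subgroup (Gam Q)} {p f m r : ℕ} {c : F}
  (h : Bt Q K Γ p f m r c)
include h

theorem nc_dvd {y : K} (hy : orderOf y = r) : nc y ∣ 2 * m := by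
  have := h.finGL
  have := h.charP
  have := h.nontrivialV
  obtain ⟨D, hD0, hD1, hD2, hD3⟩ := h.fpf.nc_dvd h.prime h.rprime h.rnep hy
  rw [h.cardF, order_card h.fpos h.ord] at hD3
  rw [h.dim] at hD1
  refine hD2.trans ?_
  obtain ⟨k, rfl⟩ := hD3
  have hm := h.hm
  have h1 : k ≤ 2 := by
    by_contra hcon
    have : m * 3 ≤ m * k := Nat.mul_le_mul_left m (by omega)
    omega
  have h2 : k = 0 ∨ k = 1 ∨ k = 2 := by omega
  rcases h2 with rfl | rfl | rfl
  · omega
  · exact ⟨2, by ring⟩
  · exact ⟨1, by ring⟩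

theorem fac_nc {y : K} (hy : orderOf y = r) : (nc y).factorization p ≤ (2 * m).factorization p :=
  H997.Rg.fac_le (h.nc_dvd hy) (by have := h.hm; omega)

/-- `⟨y⟩` is centralised by the Fitting subgroup -/
theorem fit {y : K} (hy : orderOf y = r) : y ∈ Subgroup.centralizer (fittingSubgroup K : Set K) := by
  have := h.finGL
  have := h.charP
  have := h.nontrivialV
  exact h.fpf.fit h.prime h.rprime h.r5 h.rnep hy
    (by rw [h.core]; intro a ha; rw [Subgroup.mem_bot.1 ha]; exact Commute.one_right y)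

theorem pow_val : p ^ (f * (m - 1)) ≤ p ^ (2 * f).factorization p * p ^ (Nat.card K).factorization p := by
  rw [← pow_add]
  exact Nat.pow_le_pow_right h.prime.pos (by have := h.val; omega)

theorem hQ : (1 + 1) ^ 2 < p ^ (f * m) := by
  have h1 : 2 ^ 4 ≤ p ^ (f * m) := (Nat.pow_le_pow_left h.prime.two_le 4).trans (Nat.pow_le_pow_right h.prime.pos h.fm4)
  omega

theorem M_le : Nat.card K / p ^ (Nat.card K).factorization p ≤ 1 * (p ^ (f * m) + 1) := by
  have h1 : 0 < p ^ (f * m) - 1 := by
    have := h.hQ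
    omega
  have := Nat.le_of_dvd h1 h.ordCompl_dvd
  omega

/-- a bound for the order of `K` contradicts the size -/
theorem small (hex : ¬ (p = 2 ∧ f = 1 ∧ m = 8)) {x : ℕ} (hx : x ≤ p ^ (2 * m).factorization p * (4 * m + 2))
    (hK : p ^ (Nat.card K).factorization p ≤ x) : False := by
  have h1 := szm_n1 h.prime h.fpos h.hm h.sz hex
  have h2 := h.pow_val
  have h3 : p ^ (2 * f).factorization p * p ^ (Nat.card K).factorization p ≤
      p ^ (2 * f).factorization p * (p ^ (2 * m).factorization p * (4 * m + 2)) :=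
    Nat.mul_le_mul le_rfl (hK.trans hx)
  omega

/-- **`m` odd, `p` odd** -/
theorem false_of_odd (hExt : StmtExt.{u, v}) (hJ : OutJ1.{v}) (hm : ¬ Even m) : False := by
  have := h.finGL
  have := h.charP
  have := h.nontrivialV
  have hp2 : p ≠ 2 := fun h2 => hm (h.even_m h2)
  have hp3 : 3 ≤ p := by
    have := h.prime.two_le
    omega
  obtain ⟨y, hy⟩ := h.exists_y
  have hyo : orderOf (y : V ≃ₗ[F] V) = r := by rw [Subgroup.orderOf_coe]; exact hy
  -- the centraliser is a `p'`-group
  have hC : ¬ p ∣ Nat.card (Subgroup.centralizer ({y} : Set K)) := by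
    intro hd
    have := Fact.mk h.prime
    obtain ⟨g, hg⟩ := exists_prime_orderOf_dvd_card' (G := Subgroup.centralizer ({y} : Set K)) p hd
    have h1 := (hExt F V p f m r h.prime h.cardF h.rprime h.ord h.fpos (by have := h.hm; omega) h.dim
      (y : V ≃ₗ[F] V) ((g : K) : V ≃ₗ[F] V) hyo (fun v hv => by
        have h2 := h.fix_bot y.2 (by rw [hyo]; exact h.rprime) (by rw [hyo]; exact h.rnep)
        have h3 : v ∈ fix (y : V ≃ₗ[F] V) := mem_fix.2 hv
        rwa [h2, Submodule.mem_bot] at h3) (by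
        have h2 := Subgroup.mem_centralizer_singleton_iff.1 g.2
        exact congrArg Subtype.val h2) (by
        rw [Subgroup.orderOf_coe, Subgroup.orderOf_coe]; exact hg)).2.2
    apply hm
    refine h1 (polarBilin Q) ?_ ?_ ?_
    · exact ⟨fun x hx => h.good.nondeg x hx, fun x hx => h.good.nondeg x fun y => by rw [polar_comm]; exact hx y⟩
    · intro u w
      exact polar_map (E_le_O (h.le y.2)) u w
    · have := h.r5
      omega
  have hN : (Nat.card (Subgroup.normalizer (Subgroup.zpowers y : Set K))).factorization p ≤ (2 * m).factorization p := by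
    rw [card_nc, Nat.factorization_mul Nat.card_pos.ne' (nc_pos y).ne', Finsupp.add_apply,
      Nat.factorization_eq_zero_of_not_dvd hC, zero_add]
    exact h.fac_nc hy
  have hr2 : r ≠ 2 := by
    have := h.r5
    omega
  have hres := coreF h.prime h.rprime h.rnep hr2 h.cyc (d := 2 * m)
    (fun u hu hup => by rw [← h.dim]; exact h.fpf.nc_le hu hup rfl) y hy (h.fit hy)
    (hout_of hJ h.prime h.rprime hr2 h.cyc h.fac_lt_r) hN
  have hex : ¬ (p = 2 ∧ f = 1 ∧ m = 8) := fun h0 => hp2 h0.1
  have hpp : 1 ≤ p ^ (2 * m).factorization p := Nat.one_le_pow _ _ h.prime.pos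
  have hm4 := h.hm
  rcases hres with h1 | ⟨l, hl, hl5, hld, hrl, hpl⟩ | ⟨h2, _, _⟩ | ⟨_, _, h3⟩ | ⟨b, hb1, hb4, hvb, hdM, hrb, _⟩ |
      ⟨h2, _⟩
  · refine h.small hex (x := p ^ (2 * m).factorization p) (Nat.le_mul_of_pos_right _ (by omega)) ?_
    exact Nat.pow_le_pow_right h.prime.pos h1
  · exact h.small hex (Nat.mul_le_mul le_rfl (by omega)) hpl
  · exact hp2 h2
  · exact h.small hex (Nat.mul_le_mul le_rfl (by omega)) h3
  · have h1 := plus_B h.prime h.ord h.hQ h.M_le hrb (Nat.le_of_dvd (by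
      have : 0 < Nat.card K / p ^ (Nat.card K).factorization p := Nat.ordCompl_pos p Nat.card_pos.ne'
      omega) hdM)
    have h2 := h.val
    have h3 := three_fac_le hp3 (n := f) (by have := h.fpos; omega)
    have h4 := three_fac_le hp3 (n := m) (by omega)
    have h5 : (2 * f).factorization p = f.factorization p := by
      rw [Nat.factorization_mul two_ne_zero (by have := h.fpos; omega), Finsupp.add_apply,
        Nat.factorization_eq_zero_of_not_dvd (fun hd => hp2 ((Nat.prime_dvd_prime_iff_eq h.prime Nat.prime_two).1 hd)), zero_add]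
    have h6 : (2 * m).factorization p = m.factorization p := by
      rw [Nat.factorization_mul two_ne_zero (by omega), Finsupp.add_apply,
        Nat.factorization_eq_zero_of_not_dvd (fun hd => hp2 ((Nat.prime_dvd_prime_iff_eq h.prime Nat.prime_two).1 hd)), zero_add]
    rw [h5] at h2
    rw [h6] at hvb
    have h7 : f * (m - 1) + f = f * m := by
      obtain ⟨k, rfl⟩ : ∃ k, m = k + 1 := ⟨m - 1, by omega⟩
      rw [Nat.add_sub_cancel]; ring
    have hm5 : m ≠ 4 ∧ m ≠ 6 := ⟨fun h0 => hm (h0 ▸ by decide), fun h0 => hm (h0 ▸ by decide)⟩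
    have h8 : 1 * (m - 3) ≤ f * (m - 3) := Nat.mul_le_mul_right _ h.fpos
    have h9 : f * (m - 3) + 3 * f = f * m := by
      obtain ⟨k, rfl⟩ : ∃ k, m = k + 3 := ⟨m - 3, by omega⟩
      rw [Nat.add_sub_cancel]; ring
    have h10 := h.fpos
    omega
  · exact hp2 h2

end Bt

end Cfsg.Agent.H920.Rg
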