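import Cfsg.Agent.H920.Rg.Frame
import Cfsg.Agent.H826.Rg.Bridge

/-!
# S3691, residual case D+1 beta: statements of the pieces on orders (helper920)
-/

set_option autoImplicit false

open Cfsg Module
open QuadraticMap Cfsg.Agent.LieClassical.OrthCore Cfsg.Agent.LieClassical.OrthTrans
  Cfsg.Agent.ClassicalGeometry.OrthSemi Cfsg.Agent.H449.Reg Cfsg.Agent.H454.Reg
open Cfsg.Agent.H964.Rg (ResV)

namespace Cfsg.Agent.H920.Rg

universe u v

/-- piece N2 : the number of vectors of norm `c ≠ 0` for a form of plus type -/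
def StmtCnt : Prop := ∀ (F : Type u) (V : Type v) [Field F] [Finite F] [AddCommGroup V] [Module F V] [FiniteDimensional F V]
  (Q : QuadraticForm F V) (q m : ℕ) (c : F), Nondeg Q → Nat.card F = q → finrank F V = 2 * m → 1 ≤ m → c ≠ 0 →
  (∃ D : Submodule F V, finrank F D = m ∧ ∀ x ∈ D, Q x = 0) → Nat.card {u : V // Q u = c} = q ^ (m - 1) * (q ^ m - 1)

/-- piece N1 : the index of `T` (the automorphisms induced by semisimilitudes of a form of plus type) -/
def StmtIdx : Prop := ∀ (ι : Type) [Fintype ι] [DecidableEq ι] (F : Type v) [Field F] [Finite F]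
  (Q : QuadraticForm F (ι → F)) (G : Type u) [Group G] [Finite G] (T : Subgroup G) [T.Normal] (hG : Good Q)
  (eT : T ≃* POmega F (⇑Q)), Ind (eP hG eT) → Subgroup.centralizer (T : Set G) = ⊥ →
  ∀ (p f m : ℕ), p.Prime → 1 ≤ f → Nat.card F = p ^ f → Fintype.card ι = 2 * m → 4 ≤ m →
  (∃ D : Submodule F (ι → F), finrank F D = m ∧ ∀ x ∈ D, Q x = 0) →
  (T.index).factorization p ≤ (2 * f).factorization p

/-- piece N3 : the frame -/
def StmtBt : Prop := ∀ (ι : Type) [Fintype ι] [DecidableEq ι] (F : Type v) [Field F] [Finite F]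
  (Q : QuadraticForm F (ι → F)) (G : Type u) [Group G] [Finite G] (T : Subgroup G) [T.Normal] (hG : Good Q)
  (eT : T ≃* POmega F (⇑Q)) (hI : Ind (eP hG eT)) (X Y : Subgroup G) (v : ι → F), Fac T X Y → ResV hI X v →
  ∀ (p f m r : ℕ), p.Prime → 1 ≤ f → Nat.card F = p ^ f → Fintype.card ι = 2 * m → 4 ≤ m → H997.Rg.SzM m (p ^ f) →
  r.Prime → orderOf (p : ZMod r) = f * m → r ∣ Nat.card (preG eT Y) →
  (∀ N : Subgroup (GL ι F), N ≤ preG eT Y → (∀ g ∈ preG eT Y, ∀ n ∈ N, g * n * g⁻¹ ∈ N) → IsPGroup p N → N = ⊥) →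
  Nat.card {u : ι → F // Q u = Q v} = (p ^ f) ^ (m - 1) * ((p ^ f) ^ m - 1) →
  (T.index).factorization p ≤ (2 * f).factorization p →
  Bt Q (H826.Rg.preE (eP hG eT) Y) (H826.Rg.Gh (eP hG eT) Y) p f m r (Q v)

end Cfsg.Agent.H920.Rg
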